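import Groth.Agent.Lib.IsQuot25.Free

/-!
# Sections of free quotients and rigidity of étale covers
-/

set_option autoImplicit false
set_option backward.isDefEq.respectTransparency.types false
universe u

open CategoryTheory CategoryTheory.Limits AlgebraicGeometry

namespace Groth.Agent.IsQuot25

theorem isOpenImmersion_section {X Y : Scheme.{u}} (p : X ⟶ Y) [Etale p] (s : Y ⟶ X)
    (hs : s ≫ p = 𝟙 Y) : IsOpenImmersion s := by
  haveI : Etale (s ≫ p) := by rw [hs]; infer_instance
  haveI : Etale s := Etale.of_comp s p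
  haveI : Mono s := haveI : Mono (s ≫ p) := by rw [hs]; infer_instance
    mono_of_mono s p
  exact IsOpenImmersion.of_flat_of_mono _

/-- Two morphisms over `Y` into a separated unramified scheme agreeing at a point. -/
theorem eq_of_eq_at_point {Z X Y : Scheme.{u}} [_root_.PreconnectedSpace Z] (p : X ⟶ Y)
    [Etale p] [IsSeparated p] (a b : Z ⟶ X) (hab : a ≫ p = b ≫ p) {K : Type u} [Field K]
    (ξ : Spec (CommRingCat.of K) ⟶ Z) (h : ξ ≫ a = ξ ≫ b) : a = b := by
  let P := pullback.lift a b hab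
  have hclosed : IsClosed (P ⁻¹' Set.range (pullback.diagonal p)) :=
    (pullback.diagonal p).isClosedEmbedding.isClosed_range.preimage P.continuous
  have hopen : IsOpen (P ⁻¹' Set.range (pullback.diagonal p)) :=
    (pullback.diagonal p).isOpenEmbedding.isOpen_range.preimage P.continuous
  have hne : (P ⁻¹' Set.range (pullback.diagonal p)).Nonempty := by
    refine ⟨ξ (IsLocalRing.closedPoint K), (ξ ≫ a) (IsLocalRing.closedPoint K), ?_⟩
    rw [← Scheme.Hom.comp_apply, ← Scheme.Hom.comp_apply]
    refine congrArg (fun m : Spec (CommRingCat.of K) ⟶ _ => m (IsLocalRing.closedPoint K)) ?_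
    apply pullback.hom_ext
    · simp [P, pullback.lift_fst]
    · simp [P, pullback.lift_snd, h]
  have huniv := IsClopen.eq_univ ⟨hclosed, hopen⟩ hne
  let c := IsOpenImmersion.lift (pullback.diagonal p) P (by
    rintro _ ⟨z, rfl⟩
    exact Set.eq_univ_iff_forall.1 huniv z)
  have hc : c ≫ pullback.diagonal p = P := IsOpenImmersion.lift_fac _ _ _
  have h1 := congrArg (· ≫ pullback.fst p p) hc
  have h2 := congrArg (· ≫ pullback.snd p p) hc
  simp only [Category.assoc, pullback.diagonal_fst, pullback.diagonal_snd, Category.comp_id, P,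
    pullback.lift_fst, pullback.lift_snd] at h1 h2
  rw [← h1, ← h2]

variable {X Y : Scheme.{u}} {G : Type u} [Group G] [Finite G] {ρ : G →* Aut X} {p : X ⟶ Y}

/-- A free quotient with a section is trivial. -/
theorem isIso_sections (hp : SGA1.IsQuot ρ p) (hfree : Free ρ) (s : Y ⟶ X) (hs : s ≫ p = 𝟙 Y) :
    IsIso (Sigma.desc (fun g : G => s ≫ (ρ g).hom) : (∐ fun _ : G => Y) ⟶ X) := by
  haveI := etale hp hfree
  have hsec : ∀ g : G, (s ≫ (ρ g).hom) ≫ p = 𝟙 Y := fun g => by rw [Category.assoc, hp.inv, hs]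
  haveI : ∀ g : G, IsOpenImmersion (s ≫ (ρ g).hom) := fun g =>
    isOpenImmersion_section p _ (hsec g)
  haveI : IsOpenImmersion (Sigma.desc (fun g : G => s ≫ (ρ g).hom) : (∐ fun _ : G => Y) ⟶ X) := by
    refine isOpenImmersion_sigmaDesc _ _ fun g h hgh => ?_
    rw [Function.onFun, Set.disjoint_left]
    rintro x ⟨y, rfl⟩ ⟨y', hy'⟩
    refine hgh ?_
    let x := (s ≫ (ρ g).hom) y
    have hlift : ∀ (k : G) (z : Y), (s ≫ (ρ k).hom) z = x →
        X.fromSpecResidueField x ≫ p ≫ s ≫ (ρ k).hom = X.fromSpecResidueField x := by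
      intro k z hk
      obtain ⟨t, ht⟩ : ∃ t, t ≫ s ≫ (ρ k).hom = X.fromSpecResidueField x :=
        ⟨IsOpenImmersion.lift (s ≫ (ρ k).hom) (X.fromSpecResidueField x) (by
          rintro _ ⟨w, rfl⟩
          rw [Scheme.fromSpecResidueField_apply]
          exact ⟨z, hk⟩), IsOpenImmersion.lift_fac _ _ _⟩
      have e : X.fromSpecResidueField x ≫ p = t := by
        rw [← ht, Category.assoc, hsec, Category.comp_id]
      rw [reassoc_of% e, ht]
    have h1 := hlift g y rfl
    have h2 := hlift h y' hy'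
    let b := X.fromSpecResidueField x ≫ p ≫ s
    have h1' : b ≫ (ρ g).hom = X.fromSpecResidueField x := by
      simpa only [b, Category.assoc] using h1
    have h2' : b ≫ (ρ h).hom = X.fromSpecResidueField x := by
      simpa only [b, Category.assoc] using h2
    have := hfree.eq_of_fix (K := X.residueField x) b (g⁻¹ * h) (by
      rw [map_mul_hom, ← Category.assoc]
      refine (congrArg (· ≫ (ρ g⁻¹).hom) (h2'.trans h1'.symm)).trans ?_
      show (b ≫ (ρ g).hom) ≫ (ρ g⁻¹).hom = b
      rw [Category.assoc, ← map_mul_hom, inv_mul_cancel, map_one_hom]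
      exact Category.comp_id b)
    exact inv_mul_eq_one.1 this
  haveI : Surjective (Sigma.desc (fun g : G => s ≫ (ρ g).hom) : (∐ fun _ : G => Y) ⟶ X) :=
    ⟨fun x => by
      obtain ⟨g, hg⟩ := orbit hp (s (p x)) x (by rw [← Scheme.Hom.comp_apply, hs]; rfl)
      refine ⟨(Sigma.ι (fun _ : G => Y) g) (p x), ?_⟩
      rw [← Scheme.Hom.comp_apply, Sigma.ι_desc, Scheme.Hom.comp_apply, hg]⟩
  exact (isIso_iff_isOpenImmersion_and_surjective _).mpr ⟨inferInstance, inferInstance⟩

end Groth.Agent.IsQuot25
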