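import Groth.Agent.Lib.IsQuot25.Basic
import Groth.Agent.Lib.GITQuot.Basic

/-!
# Quotients by finite groups are categorical quotients; restriction to opens
-/

set_option autoImplicit false
set_option backward.isDefEq.respectTransparency.types false
universe u

open CategoryTheory CategoryTheory.Limits AlgebraicGeometry TopologicalSpace Opposite
open Groth.Agent.GITQuot (Good)

namespace Groth.Agent.IsQuot25

/-- An open containing the preimage gives a local descent. -/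
theorem exists_local_desc {X Y Z : Scheme.{u}} (p : X ⟶ Y) (h : X ⟶ Z) {V : Z.Opens}
    (hV : IsAffineOpen V) (U : Y.Opens) (hinj : Function.Injective (p.app U)) (e : p ⁻¹ᵁ U ≤ h ⁻¹ᵁ V)
    (hr : ∀ s, h.appLE V (p ⁻¹ᵁ U) e s ∈ Set.range (p.app U)) :
    ∃ g : U.toScheme ⟶ Z, p ∣_ U ≫ g = (p ⁻¹ᵁ U).ι ≫ h := by
  let π := h.appLE V (p ⁻¹ᵁ U) e
  let eU := RingEquiv.ofBijective (p.app U).hom.rangeRestrict
    ⟨fun x y hxy => hinj (congrArg Subtype.val hxy), (p.app U).hom.rangeRestrict_surjective⟩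
  let ψ : Γ(Z, V) ⟶ Γ(Y, U) :=
    CommRingCat.ofHom (eU.symm.toRingHom.comp (π.hom.codRestrict _ hr))
  have hψ : ψ ≫ p.app U = π := by
    ext s
    exact congrArg Subtype.val (eU.apply_symm_apply ⟨π s, hr s⟩)
  refine ⟨U.toSpecΓ ≫ Spec.map ψ ≫ hV.fromSpec, ?_⟩
  rw [← Scheme.Opens.toSpecΓ_naturality_assoc, ← Spec.map_comp_assoc, hψ]
  rw [Scheme.Opens.toSpecΓ_SpecMap_appLE_assoc, hV.toSpecΓ_fromSpec, Scheme.Hom.resLE_comp_ι]

/-- Descent criterion along a submersive morphism with injective comorphism. -/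
theorem exists_desc {X Y Z : Scheme.{u}} (p : X ⟶ Y) (hgood : Good p)
    (hq : Topology.IsQuotientMap p) (h : X ⟶ Z) (hfib : ∀ x x' : X, p x = p x' → h x = h x')
    (hr : ∀ (U : Y.Opens) (V : Z.Opens) (_ : IsAffineOpen V) (e : p ⁻¹ᵁ U ≤ h ⁻¹ᵁ V) (s : Γ(Z, V)),
      h.appLE V (p ⁻¹ᵁ U) e s ∈ Set.range (p.app U)) :
    ∃! h' : Y ⟶ Z, p ≫ h' = h := by
  have hopen : ∀ V : Z.Opens, IsOpen (p '' (h ⁻¹ᵁ V : Set X)) := fun V => by
    rw [← hq.isOpen_preimage]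
    convert (h ⁻¹ᵁ V).2 using 1
    ext x
    exact ⟨fun ⟨x', hx', e⟩ => show h x ∈ V by rw [← hfib x' x e]; exact hx', fun hx => ⟨x, hx, rfl⟩⟩
  have hloc : ∀ y : Y, ∃ (U : Y.Opens) (V : Z.Opens), IsAffineOpen V ∧ y ∈ U ∧ p ⁻¹ᵁ U ≤ h ⁻¹ᵁ V := by
    intro y
    obtain ⟨x, rfl⟩ := hgood.surj y
    obtain ⟨V, hV, hxV, -⟩ :=
      exists_isAffineOpen_mem_and_subset (show h x ∈ (⊤ : Z.Opens) from trivial)
    refine ⟨⟨_, hopen V⟩, V, hV, ⟨x, hxV, rfl⟩, ?_⟩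
    rintro z ⟨x', hx', e⟩
    show h z ∈ V
    rw [← hfib x' z e]; exact hx'
  choose U V hV hyU hUV using hloc
  choose g hg using fun y => exists_local_desc p h (hV y) (U y) (hgood.app _) (hUV y)
    (hr _ _ (hV y) _)
  let 𝒰 : Y.OpenCover := Scheme.Cover.mkOfCovers Y (fun y => (U y).toScheme)
    (fun y => (U y).ι) (fun y => ⟨y, ⟨y, hyU y⟩, rfl⟩) (fun y => inferInstance)
  have key : ∀ (i : Y) {T : Scheme.{u}} (t : T ⟶ (U i).toScheme) (x : T ⟶ X),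
      x ≫ p = t ≫ (U i).ι → t ≫ g i = x ≫ h := by
    intro i T t x hx
    let l : T ⟶ (p ⁻¹ᵁ U i).toScheme := (isPullback_morphismRestrict p _).lift t x hx.symm
    have h1 : l ≫ p ∣_ U i = t := (isPullback_morphismRestrict p _).lift_fst _ _ _
    have h2 : l ≫ (p ⁻¹ᵁ U i).ι = x := (isPullback_morphismRestrict p _).lift_snd _ _ _
    rw [← h1, Category.assoc, hg, reassoc_of% h2]
  have hcompat : ∀ i j : 𝒰.I₀,
      pullback.fst (𝒰.f i) (𝒰.f j) ≫ g i = pullback.snd (𝒰.f i) (𝒰.f j) ≫ g j := by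
    intro i j
    refine hgood.cancel_open (pullback.fst (𝒰.f i) (𝒰.f j) ≫ 𝒰.f i) fun {T} t x hx => ?_
    rw [← Category.assoc, ← Category.assoc]
    exact (key i (t ≫ pullback.fst _ _) x (hx.trans (Category.assoc _ _ _).symm)).trans
      (key j (t ≫ pullback.snd _ _) x
        (by rw [hx, Category.assoc]; exact congrArg (t ≫ ·) pullback.condition)).symm
  have hg' : p ≫ 𝒰.glueMorphisms g hcompat = h := by
    refine Scheme.Cover.hom_ext (𝒰.pullback₁ p) _ _ fun i => ?_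
    show pullback.fst p (𝒰.f i) ≫ _ = pullback.fst p (𝒰.f i) ≫ _
    rw [← Category.assoc, pullback.condition, Category.assoc, Scheme.Cover.ι_glueMorphisms]
    exact key i _ _ pullback.condition
  exact ⟨_, hg', fun χ hχ => hgood.cancel (hχ.trans hg'.symm)⟩

variable {X Y : Scheme.{u}} {G : Type u} [Group G] {ρ : G →* Aut X} {p : X ⟶ Y} [Finite G]

theorem good (hp : SGA1.IsQuot ρ p) : Good p :=
  ⟨surjective hp, hp.injective⟩

theorem appLE_mem_range (hp : SGA1.IsQuot ρ p) {Z : Scheme.{u}} {h : X ⟶ Z}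
    (hh : ∀ g : G, (ρ g).hom ≫ h = h) (U : Y.Opens) (V : Z.Opens) (e : p ⁻¹ᵁ U ≤ h ⁻¹ᵁ V)
    (s : Γ(Z, V)) : h.appLE V (p ⁻¹ᵁ U) e s ∈ Set.range (p.app U) := by
  refine (mem_range_iff hp U _).2 fun g => ?_
  rw [actHom, ← CommRingCat.comp_apply, Scheme.Hom.appLE_comp_appLE, appLE_eq (hh g)]

theorem desc_unique (hp : SGA1.IsQuot ρ p) {Z : Scheme.{u}} (h : X ⟶ Z)
    (hh : ∀ g : G, (ρ g).hom ≫ h = h) : ∃! h' : Y ⟶ Z, p ≫ h' = h := by
  refine exists_desc p (good hp) (isQuotientMap hp) h (fun x x' e => ?_)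
    (fun U V _ e => appLE_mem_range hp hh U V e)
  obtain ⟨g, hg⟩ := orbit hp x x' e
  rw [← hg, ← Scheme.Hom.comp_apply, hh]

theorem hom_ext (hp : SGA1.IsQuot ρ p) {Z : Scheme.{u}} {a b : Y ⟶ Z} (h : p ≫ a = p ≫ b) : a = b :=
  (good hp).cancel h

/-- Two quotients of the same action are isomorphic. -/
theorem exists_iso (hp : SGA1.IsQuot ρ p) {Y' : Scheme.{u}} {p' : X ⟶ Y'} (hp' : SGA1.IsQuot ρ p') :
    ∃ e : Y ≅ Y', p ≫ e.hom = p' := by
  obtain ⟨a, ha, -⟩ := desc_unique hp p' hp'.inv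
  obtain ⟨b, hb, -⟩ := desc_unique hp' p hp.inv
  exact ⟨⟨a, b, hom_ext hp (by rw [reassoc_of% ha, hb, Category.comp_id]),
    hom_ext hp' (by rw [reassoc_of% hb, ha, Category.comp_id])⟩, ha⟩

omit [Finite G]

/-- Restriction of a quotient over an open of the base. -/
theorem morphismRestrict (hp : SGA1.IsQuot ρ p) (U : Y.Opens)
    (ρU : G →* Aut (p ⁻¹ᵁ U).toScheme)
    (hρU : ∀ g : G, (ρU g).hom ≫ (p ⁻¹ᵁ U).ι = (p ⁻¹ᵁ U).ι ≫ (ρ g).hom) :
    SGA1.IsQuot ρU (p ∣_ U) := by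
  haveI := hp.affine
  have hinv : ∀ g : G, (ρU g).hom ≫ p ∣_ U = p ∣_ U := fun g => by
    rw [← cancel_mono U.ι, Category.assoc, morphismRestrict_ι, reassoc_of% (hρU g), hp.inv]
  refine ⟨IsZariskiLocalAtTarget.restrict hp.affine U, hinv, fun V => ?_, fun V s => ?_⟩
  · rw [morphismRestrict_app]
    exact (ConcreteCategory.bijective_of_isIso (X.presheaf.map _)).1.comp (hp.injective _)
  · let α := X.presheaf.map (eqToHom (image_morphismRestrict_preimage p U V)).op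
    have happ : (p ∣_ U).app V = p.app (U.ι ''ᵁ V) ≫ α := morphismRestrict_app p U V
    have hbij := ConcreteCategory.bijective_of_isIso α
    obtain ⟨t, ht⟩ := hbij.2 s
    have hact : ∀ g : G, α ≫ (ρU g).hom.appLE ((p ∣_ U) ⁻¹ᵁ V) ((p ∣_ U) ⁻¹ᵁ V)
        (SGA1.preimage_le_of_inv ρU _ hinv g V) = actHom hp.inv (U.ι ''ᵁ V) g ≫ α := by
      intro g
      have e1 : (p ∣_ U) ⁻¹ᵁ V ≤ (p ⁻¹ᵁ U).ι ⁻¹ᵁ (p ⁻¹ᵁ (U.ι ''ᵁ V)) := by
        rw [← image_morphismRestrict_preimage, Scheme.Hom.preimage_image_eq]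
      have h1 : α = (p ⁻¹ᵁ U).ι.appLE (p ⁻¹ᵁ (U.ι ''ᵁ V)) ((p ∣_ U) ⁻¹ᵁ V) e1 :=
        (Scheme.Opens.ι_appLE _ _ _ _).symm
      rw [h1, actHom]
      erw [Scheme.Hom.appLE_comp_appLE, Scheme.Hom.appLE_comp_appLE]
      exact appLE_eq (hρU g) _ _ _
    have hact' : ∀ (g : G) (r : Γ(X, p ⁻¹ᵁ (U.ι ''ᵁ V))),
        (ρU g).hom.appLE ((p ∣_ U) ⁻¹ᵁ V) ((p ∣_ U) ⁻¹ᵁ V)
          (SGA1.preimage_le_of_inv ρU _ hinv g V) (α r) = α (actHom hp.inv (U.ι ''ᵁ V) g r) :=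
      fun g r => congr($(hact g) r)
    have happ' : ∀ a, (p ∣_ U).app V a = α (p.app (U.ι ''ᵁ V) a) := fun a => congr($happ a)
    subst ht
    constructor
    · rintro ⟨a, ha⟩ g
      have ht : p.app (U.ι ''ᵁ V) a = t := hbij.1 ((happ' a).symm.trans ha)
      exact (hact' g t).trans (congrArg α ((mem_range_iff hp _ _).1 ⟨a, ht⟩ g))
    · intro h
      obtain ⟨a, ha⟩ := (mem_range_iff hp (U.ι ''ᵁ V) t).2 fun g =>
        hbij.1 ((hact' g t).symm.trans (h g))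
      exact ⟨a, (happ' a).trans (congrArg α ha)⟩

/-- Transport of a quotient along an equivariant isomorphism of the source. -/
theorem of_iso_left (hp : SGA1.IsQuot ρ p) {X' : Scheme.{u}} (e : X' ≅ X) (ρ' : G →* Aut X')
    (he : ∀ g : G, (ρ' g).hom ≫ e.hom = e.hom ≫ (ρ g).hom) : SGA1.IsQuot ρ' (e.hom ≫ p) := by
  haveI := hp.affine
  have hinv : ∀ g : G, (ρ' g).hom ≫ e.hom ≫ p = e.hom ≫ p := fun g => by
    rw [reassoc_of% (he g), hp.inv]
  have hact : ∀ (U : Y.Opens) (g : G), e.hom.app (p ⁻¹ᵁ U) ≫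
      (ρ' g).hom.appLE ((e.hom ≫ p) ⁻¹ᵁ U) ((e.hom ≫ p) ⁻¹ᵁ U)
        (SGA1.preimage_le_of_inv ρ' _ hinv g U) =
      actHom hp.inv U g ≫ e.hom.app (p ⁻¹ᵁ U) := by
    intro U g
    rw [Scheme.Hom.app_eq_appLE, actHom]
    erw [Scheme.Hom.appLE_comp_appLE, Scheme.Hom.appLE_comp_appLE]
    exact appLE_eq (he g) _ _ _
  refine ⟨inferInstance, hinv, fun U => ?_, fun U s => ?_⟩
  · rw [Scheme.Hom.comp_app]
    exact (ConcreteCategory.bijective_of_isIso (e.hom.app _)).1.comp (hp.injective _)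
  · have hbij := ConcreteCategory.bijective_of_isIso (e.hom.app (p ⁻¹ᵁ U))
    have hact' : ∀ (g : G) (r : Γ(X, p ⁻¹ᵁ U)),
        (ρ' g).hom.appLE ((e.hom ≫ p) ⁻¹ᵁ U) ((e.hom ≫ p) ⁻¹ᵁ U)
          (SGA1.preimage_le_of_inv ρ' _ hinv g U) (e.hom.app (p ⁻¹ᵁ U) r) =
          e.hom.app (p ⁻¹ᵁ U) (actHom hp.inv U g r) :=
      fun g r => congr($(hact U g) r)
    have happ' : ∀ a, (e.hom ≫ p).app U a = e.hom.app (p ⁻¹ᵁ U) (p.app U a) :=
      fun a => congr($(Scheme.Hom.comp_app e.hom p U) a)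
    obtain ⟨t, ht⟩ := hbij.2 s
    subst ht
    constructor
    · rintro ⟨a, ha⟩ g
      have ht : p.app U a = t := hbij.1 ((happ' a).symm.trans ha)
      exact (hact' g t).trans (congrArg _ ((mem_range_iff hp _ _).1 ⟨a, ht⟩ g))
    · intro h
      obtain ⟨a, ha⟩ := (mem_range_iff hp U t).2 fun g => hbij.1 ((hact' g t).symm.trans (h g))
      exact ⟨a, (happ' a).trans (congrArg _ ha)⟩

end Groth.Agent.IsQuot25
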