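import Groth.Agent.Lib.IsQuot25.Basic
import Mathlib.Topology.Sheaves.SheafCondition.UniqueGluing

/-!
# Being a quotient by a finite group can be checked on an affine cover
-/

set_option autoImplicit false
set_option backward.isDefEq.respectTransparency.types false
universe u

open CategoryTheory AlgebraicGeometry TopologicalSpace Opposite

namespace Groth.Agent.IsQuot25

variable {X Y : Scheme.{u}} {G : Type u} [Group G] {ρ : G →* Aut X} {p : X ⟶ Y}

theorem app_map_apply (p : X ⟶ Y) {V U : Y.Opens} (e : V ≤ U) (a : Γ(Y, U)) :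
    p.app V (Y.presheaf.map (homOfLE e).op a) =
      X.presheaf.map (homOfLE ((Opens.map p.base).monotone e)).op (p.app U a) :=
  congr($(p.naturality (homOfLE e).op) a)

theorem actHom_map_apply (hinv : ∀ g : G, (ρ g).hom ≫ p = p) {U V : Y.Opens} (e : V ≤ U) (g : G)
    (s : Γ(X, p ⁻¹ᵁ U)) :
    X.presheaf.map (homOfLE ((Opens.map p.base).monotone e)).op (actHom hinv U g s) =
      actHom hinv V g (X.presheaf.map (homOfLE ((Opens.map p.base).monotone e)).op s) :=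
  congr($(actHom_map hinv e g) s)

/-- The conditions on sections over `U`. -/
def GoodAt (hinv : ∀ g : G, (ρ g).hom ≫ p = p) (U : Y.Opens) : Prop :=
  Function.Injective (p.app U) ∧
    ∀ s, (∀ g : G, actHom hinv U g s = s) → s ∈ Set.range (p.app U)

theorem goodAt (hp : SGA1.IsQuot ρ p) (U : Y.Opens) : GoodAt hp.inv U :=
  ⟨hp.injective U, fun s hs => (hp.range_iff U s).2 hs⟩

/-- From a basis to all opens. -/
theorem of_basis (haff : IsAffineHom p) (hinv : ∀ g : G, (ρ g).hom ≫ p = p) {P : Y.Opens → Prop}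
    (hP : ∀ (W : Y.Opens) (y : Y), y ∈ W → ∃ D, P D ∧ y ∈ D ∧ D ≤ W)
    (h : ∀ D, P D → GoodAt hinv D) : SGA1.IsQuot ρ p := by
  have hinj : ∀ W : Y.Opens, Function.Injective (p.app W) := by
    intro W a b hab
    choose D hD hyD hDW using fun y : W => hP W y.1 y.2
    refine TopCat.Sheaf.eq_of_locally_eq' Y.sheaf D W (fun y => homOfLE (hDW y))
      (fun z hz => Opens.mem_iSup.2 ⟨⟨z, hz⟩, hyD _⟩) a b fun y => (h _ (hD y)).1 ?_
    show p.app (D y) (Y.presheaf.map _ a) = p.app (D y) (Y.presheaf.map _ b)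
    rw [app_map_apply p (hDW y), app_map_apply p (hDW y), hab]
  refine ⟨haff, hinv, hinj, fun W s => ⟨?_, fun hs => ?_⟩⟩
  · rintro ⟨a, rfl⟩ g
    exact congr($(actHom_app hinv W g) a)
  · change ∀ g : G, actHom hinv W g s = s at hs
    choose D hD hyD hDW using fun y : W => hP W y.1 y.2
    have hres : ∀ y, ∀ g : G, actHom hinv (D y) g
        (X.presheaf.map (homOfLE ((Opens.map p.base).monotone (hDW y))).op s) =
        X.presheaf.map (homOfLE ((Opens.map p.base).monotone (hDW y))).op s := fun y g => by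
      rw [← actHom_map_apply hinv (hDW y) g s, hs g]
    choose a ha using fun y => (h _ (hD y)).2 _ (hres y)
    have hcompat : TopCat.Presheaf.IsCompatible Y.sheaf.1 D a := by
      intro i j
      apply hinj
      show p.app (D i ⊓ D j) (Y.presheaf.map (homOfLE inf_le_left).op (a i)) =
        p.app (D i ⊓ D j) (Y.presheaf.map (homOfLE inf_le_right).op (a j))
      rw [app_map_apply p inf_le_left, app_map_apply p inf_le_right, ha, ha]
      rw [← CommRingCat.comp_apply, ← CommRingCat.comp_apply, ← X.presheaf.map_comp,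
        ← X.presheaf.map_comp]
      rfl
    obtain ⟨t, ht, -⟩ := TopCat.Sheaf.existsUnique_gluing' Y.sheaf D W (fun y => homOfLE (hDW y))
      (fun z hz => Opens.mem_iSup.2 ⟨⟨z, hz⟩, hyD _⟩) a hcompat
    refine ⟨t, TopCat.Sheaf.eq_of_locally_eq' X.sheaf (fun y => p ⁻¹ᵁ D y) (p ⁻¹ᵁ W)
      (fun y => homOfLE ((Opens.map p.base).monotone (hDW y)))
      (fun z hz => Opens.mem_iSup.2 ⟨⟨p z, hz⟩, hyD ⟨p z, hz⟩⟩) _ _ fun y => ?_⟩
    show X.presheaf.map _ (p.app W t) = X.presheaf.map _ s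
    rw [← app_map_apply p (hDW y), show Y.presheaf.map (homOfLE (hDW y)).op t = a y from ht y, ha]

/-- From an affine open to its basic opens. -/
theorem goodAt_basicOpen [Finite G] (haff : IsAffineHom p) (hinv : ∀ g : G, (ρ g).hom ≫ p = p)
    {U : Y.Opens} (hU : IsAffineOpen U) (h : GoodAt hinv U) (a : Γ(Y, U)) :
    GoodAt hinv (Y.basicOpen a) := by
  set D := Y.basicOpen a with hDdef
  have hD : D ≤ U := Y.basicOpen_le a
  set b := p.app U a with hbdef
  have e : p ⁻¹ᵁ D = X.basicOpen b := Scheme.preimage_basicOpen p a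
  letI algY := (Y.presheaf.map (homOfLE hD).op).hom.toAlgebra
  letI algX := (X.presheaf.map (homOfLE ((Opens.map p.base).monotone hD)).op).hom.toAlgebra
  haveI : IsLocalization.Away a Γ(Y, D) := hU.isLocalization_of_eq_basicOpen a (homOfLE hD) rfl
  haveI : IsLocalization.Away b Γ(X, p ⁻¹ᵁ D) := (hU.preimage p).isLocalization_of_eq_basicOpen b
    (homOfLE ((Opens.map p.base).monotone hD)) e
  have hnat : ∀ α : Γ(Y, U), p.app D (algebraMap Γ(Y, U) Γ(Y, D) α) =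
      algebraMap Γ(X, p ⁻¹ᵁ U) Γ(X, p ⁻¹ᵁ D) (p.app U α) := app_map_apply p hD
  have hact : ∀ (g : G) (s : Γ(X, p ⁻¹ᵁ U)),
      algebraMap Γ(X, p ⁻¹ᵁ U) Γ(X, p ⁻¹ᵁ D) (actHom hinv U g s) =
        actHom hinv D g (algebraMap Γ(X, p ⁻¹ᵁ U) Γ(X, p ⁻¹ᵁ D) s) := actHom_map_apply hinv hD
  have hub : ∀ n : ℕ, IsUnit (algebraMap Γ(X, p ⁻¹ᵁ U) Γ(X, p ⁻¹ᵁ D) (b ^ n)) := fun n =>
    IsLocalization.map_units (M := Submonoid.powers b) Γ(X, p ⁻¹ᵁ D) ⟨b ^ n, n, rfl⟩
  have hua : ∀ n : ℕ, IsUnit (algebraMap Γ(Y, U) Γ(Y, D) (a ^ n)) := fun n =>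
    IsLocalization.map_units (M := Submonoid.powers a) Γ(Y, D) ⟨a ^ n, n, rfl⟩
  constructor
  · rw [injective_iff_map_eq_zero]
    intro s hs
    obtain ⟨⟨α, ⟨-, n, rfl⟩⟩, hα⟩ := IsLocalization.surj (Submonoid.powers a) s
    simp only at hα
    have h0 : algebraMap Γ(X, p ⁻¹ᵁ U) Γ(X, p ⁻¹ᵁ D) (p.app U α) = 0 := by
      rw [← hnat, ← hα, map_mul, hs, zero_mul]
    obtain ⟨⟨-, m, rfl⟩, hm⟩ := (IsLocalization.map_eq_zero_iff (Submonoid.powers b) _ _).1 h0
    simp only at hm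
    have h1 : a ^ m * α = 0 := h.1 (by rw [map_mul, map_pow, map_zero]; exact hm)
    have h2 : algebraMap Γ(Y, U) Γ(Y, D) α = 0 := by
      have := congrArg (algebraMap Γ(Y, U) Γ(Y, D)) h1
      rwa [map_mul, map_zero, (hua m).mul_right_eq_zero] at this
    rw [h2] at hα
    exact (hua n).mul_left_eq_zero.1 hα
  · intro s hs
    obtain ⟨⟨β, ⟨-, n, rfl⟩⟩, hβ⟩ := IsLocalization.surj (Submonoid.powers b) s
    simp only at hβ
    have hb : ∀ g : G, actHom hinv U g b = b := fun g => congr($(actHom_app hinv U g) a)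
    have h0 : ∀ g : G, ∃ m : ℕ, b ^ m * (actHom hinv U g β - β) = 0 := fun g => by
      have : algebraMap Γ(X, p ⁻¹ᵁ U) Γ(X, p ⁻¹ᵁ D) (actHom hinv U g β - β) = 0 := by
        rw [map_sub, hact, ← hβ, map_mul, hs, ← hact, map_pow, hb, sub_self]
      obtain ⟨⟨-, m, rfl⟩, hm⟩ := (IsLocalization.map_eq_zero_iff (Submonoid.powers b) _ _).1 this
      exact ⟨m, hm⟩
    choose m hm using h0
    obtain ⟨M, hM⟩ := (Set.finite_range m).bddAbove
    have hβ' : ∀ g : G, actHom hinv U g (b ^ M * β) = b ^ M * β := fun g => by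
      rw [map_mul, map_pow, hb, ← sub_eq_zero, ← mul_sub,
        ← Nat.sub_add_cancel (hM ⟨g, rfl⟩), pow_add, mul_assoc, hm g, mul_zero]
    obtain ⟨α, hα⟩ := h.2 _ hβ'
    obtain ⟨t, ht⟩ : algebraMap Γ(Y, U) Γ(Y, D) (a ^ (M + n)) ∣ algebraMap Γ(Y, U) Γ(Y, D) α :=
      (hua _).dvd
    refine ⟨t, (hub (M + n)).mul_left_cancel ?_⟩
    have := congrArg (p.app D) ht
    rw [map_mul, hnat, hnat, hα, map_pow (p.app U).hom, map_mul, ← hβ] at this
    rw [show algebraMap Γ(X, p ⁻¹ᵁ U) Γ(X, p ⁻¹ᵁ D) (b ^ (M + n)) * p.app D t =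
      algebraMap Γ(X, p ⁻¹ᵁ U) Γ(X, p ⁻¹ᵁ D) (b ^ M) *
        (s * algebraMap Γ(X, p ⁻¹ᵁ U) Γ(X, p ⁻¹ᵁ D) (b ^ n)) from this.symm, pow_add, map_mul]
    ring

/-- The affine criterion. -/
theorem of_affineCover [Finite G] (haff : IsAffineHom p) (hinv : ∀ g : G, (ρ g).hom ≫ p = p)
    (h : ∀ y : Y, ∃ U : Y.Opens, IsAffineOpen U ∧ y ∈ U ∧ GoodAt hinv U) : SGA1.IsQuot ρ p := by
  refine of_basis haff hinv
    (P := fun D => ∃ U : Y.Opens, IsAffineOpen U ∧ GoodAt hinv U ∧ ∃ a : Γ(Y, U), D = Y.basicOpen a)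
    (fun W y hy => ?_) ?_
  · obtain ⟨U, hU, hyU, hg⟩ := h y
    obtain ⟨a, ha, hya⟩ := hU.exists_basicOpen_le (V := W) ⟨y, hy⟩ hyU
    exact ⟨_, ⟨U, hU, hg, a, rfl⟩, hya, ha⟩
  · rintro D ⟨U, hU, hg, a, rfl⟩
    exact goodAt_basicOpen haff hinv hU hg a

end Groth.Agent.IsQuot25
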