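import Groth.Agent.Lib.IsQuot25.Desc
import Groth.Agent.Lib.IsQuot25.Local
import Groth.Agent.Lib.GrpQuot.Invariant
import Mathlib.AlgebraicGeometry.Gluing

/-!
# Existence of quotients by finite groups
-/

set_option autoImplicit false
set_option linter.style.haveILetI false
set_option backward.isDefEq.respectTransparency.types false
universe u

open CategoryTheory CategoryTheory.Limits AlgebraicGeometry TopologicalSpace

noncomputable section

namespace Groth.Agent.IsQuot25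

variable {X : Scheme.{u}} {G : Type u} [Group G]

/-- The restriction of an action to an invariant open. -/
def restrHom (ρ : G →* Aut X) (W : X.Opens) (hW : ∀ g : G, (ρ g).hom ⁻¹ᵁ W = W) (g : G) :
    W.toScheme ⟶ W.toScheme :=
  IsOpenImmersion.lift W.ι (W.ι ≫ (ρ g).hom) (by
    rintro _ ⟨x, rfl⟩
    rw [Scheme.Opens.range_ι]
    have : x.1 ∈ (ρ g).hom ⁻¹ᵁ W := (hW g).ge x.2
    exact this)

theorem restrHom_ι (ρ : G →* Aut X) (W : X.Opens) (hW : ∀ g : G, (ρ g).hom ⁻¹ᵁ W = W) (g : G) :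
    restrHom ρ W hW g ≫ W.ι = W.ι ≫ (ρ g).hom :=
  IsOpenImmersion.lift_fac _ _ _

/-- The restricted action. -/
def restr (ρ : G →* Aut X) (W : X.Opens) (hW : ∀ g : G, (ρ g).hom ⁻¹ᵁ W = W) :
    G →* Aut W.toScheme where
  toFun g :=
    { hom := restrHom ρ W hW g
      inv := restrHom ρ W hW g⁻¹
      hom_inv_id := by
        rw [← cancel_mono W.ι, Category.assoc, restrHom_ι, reassoc_of% (restrHom_ι ρ W hW g),
          ← map_mul_hom, inv_mul_cancel, map_one_hom, Category.comp_id, Category.id_comp]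
      inv_hom_id := by
        rw [← cancel_mono W.ι, Category.assoc, restrHom_ι, reassoc_of% (restrHom_ι ρ W hW g⁻¹),
          ← map_mul_hom, mul_inv_cancel, map_one_hom, Category.comp_id, Category.id_comp] }
  map_one' := by
    ext1
    show restrHom ρ W hW 1 = 𝟙 _
    rw [← cancel_mono W.ι, restrHom_ι, map_one_hom, Category.comp_id, Category.id_comp]
  map_mul' g h := by
    ext1
    show restrHom ρ W hW (g * h) = restrHom ρ W hW h ≫ restrHom ρ W hW g
    rw [← cancel_mono W.ι, Category.assoc, restrHom_ι, restrHom_ι,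
      reassoc_of% (restrHom_ι ρ W hW h), ← map_mul_hom]

theorem restr_ι (ρ : G →* Aut X) (W : X.Opens) (hW : ∀ g : G, (ρ g).hom ⁻¹ᵁ W = W) (g : G) :
    (restr ρ W hW g).hom ≫ W.ι = W.ι ≫ (ρ g).hom :=
  restrHom_ι ρ W hW g

theorem preimage_inv_of_inv {Y : Scheme.{u}} (ρ : G →* Aut X) {p : X ⟶ Y}
    (hinv : ∀ g : G, (ρ g).hom ≫ p = p) (U : Y.Opens) (g : G) :
    (ρ g).hom ⁻¹ᵁ (p ⁻¹ᵁ U) = p ⁻¹ᵁ U := by
  rw [← Scheme.Hom.comp_preimage, hinv]

/-- A quotient restricts to an invariant open of the source. -/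
theorem exists_isQuot_of_le [Finite G] {ρ : G →* Aut X} {Y : Scheme.{u}} {p : X ⟶ Y}
    (hp : SGA1.IsQuot ρ p) {Z : Scheme.{u}} (j : Z ⟶ X) [IsOpenImmersion j] (σ : G →* Aut Z)
    (hσ : ∀ g : G, (σ g).hom ≫ j = j ≫ (ρ g).hom) :
    ∃ (U : Y.Opens) (q : Z ⟶ U.toScheme), q ≫ U.ι = j ≫ p ∧ SGA1.IsQuot σ q ∧
      p ⁻¹ᵁ U = j.opensRange := by
  let U : Y.Opens := ⟨p '' j.opensRange, isOpenMap hp _ j.opensRange.2⟩
  have hpre : p ⁻¹ᵁ U = j.opensRange := by
    ext x
    refine ⟨fun ⟨x', hx', e⟩ => ?_, fun hx => ⟨x, hx, rfl⟩⟩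
    obtain ⟨z, rfl⟩ := hx'
    obtain ⟨g, hg⟩ := orbit hp _ _ e
    exact ⟨(σ g).hom z, by rw [← Scheme.Hom.comp_apply, hσ, Scheme.Hom.comp_apply, hg]⟩
  let e : Z ≅ (p ⁻¹ᵁ U).toScheme := IsOpenImmersion.isoOfRangeEq j (p ⁻¹ᵁ U).ι (by
    rw [Scheme.Opens.range_ι, hpre]; rfl)
  have he : e.hom ≫ (p ⁻¹ᵁ U).ι = j := IsOpenImmersion.isoOfRangeEq_hom_fac _ _ _
  let ρU := restr ρ (p ⁻¹ᵁ U) (preimage_inv_of_inv ρ hp.inv U)
  refine ⟨U, e.hom ≫ p ∣_ U, ?_, of_iso_left (morphismRestrict hp U ρU (restr_ι _ _ _)) e σ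
    (fun g => ?_), hpre⟩
  · rw [Category.assoc, morphismRestrict_ι, reassoc_of% he]
  · rw [← cancel_mono (p ⁻¹ᵁ U).ι, Category.assoc, Category.assoc, he, hσ, restr_ι,
      reassoc_of% he]

/-- Composition with an isomorphism of the target. -/
theorem isQuot_comp_iso {ρ : G →* Aut X} {Y Y' : Scheme.{u}} {p : X ⟶ Y} (hp : SGA1.IsQuot ρ p)
    (e : Y ≅ Y') : SGA1.IsQuot ρ (p ≫ e.hom) := by
  haveI := hp.affine
  have hinv : ∀ g : G, (ρ g).hom ≫ p ≫ e.hom = p ≫ e.hom := fun g => by rw [reassoc_of% (hp.inv g)]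
  refine ⟨inferInstance, hinv, fun U => ?_, fun U s => ?_⟩
  · rw [Scheme.Hom.comp_app]
    exact (hp.injective _).comp (ConcreteCategory.bijective_of_isIso (e.hom.app U)).1
  · refine Iff.trans ?_ (hp.range_iff (e.hom ⁻¹ᵁ U) s)
    have hsurj := (ConcreteCategory.bijective_of_isIso (e.hom.app U)).2
    constructor
    · rintro ⟨a, rfl⟩
      exact ⟨e.hom.app U a, (congr($(Scheme.Hom.comp_app p e.hom U) a)).symm⟩
    · rintro ⟨b, rfl⟩
      obtain ⟨a, rfl⟩ := hsurj b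
      exact ⟨a, congr($(Scheme.Hom.comp_app p e.hom U) a)⟩

/-- The sections over an open where the restriction is a quotient. -/
theorem goodAt_of_restrict {ρ : G →* Aut X} {Y : Scheme.{u}} {p : X ⟶ Y}
    (hinv : ∀ g : G, (ρ g).hom ≫ p = p) (U : Y.Opens) (ρU : G →* Aut (p ⁻¹ᵁ U).toScheme)
    (hρU : ∀ g : G, (ρU g).hom ≫ (p ⁻¹ᵁ U).ι = (p ⁻¹ᵁ U).ι ≫ (ρ g).hom)
    (h : SGA1.IsQuot ρU (p ∣_ U)) : GoodAt hinv U := by
  suffices ∀ V : U.toScheme.Opens, GoodAt hinv (U.ι ''ᵁ V) by simpa using this ⊤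
  intro V
  let α := X.presheaf.map (eqToHom (image_morphismRestrict_preimage p U V)).op
  have happ' : ∀ a, (p ∣_ U).app V a = α (p.app (U.ι ''ᵁ V) a) :=
    fun a => congr($(morphismRestrict_app p U V) a)
  have hbij := ConcreteCategory.bijective_of_isIso α
  have hact : ∀ g : G, α ≫ (ρU g).hom.appLE ((p ∣_ U) ⁻¹ᵁ V) ((p ∣_ U) ⁻¹ᵁ V)
      (SGA1.preimage_le_of_inv ρU _ h.inv g V) = actHom hinv (U.ι ''ᵁ V) g ≫ α := by
    intro g
    have e1 : (p ∣_ U) ⁻¹ᵁ V ≤ (p ⁻¹ᵁ U).ι ⁻¹ᵁ (p ⁻¹ᵁ (U.ι ''ᵁ V)) := by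
      rw [← image_morphismRestrict_preimage, Scheme.Hom.preimage_image_eq]
    have h1 : α = (p ⁻¹ᵁ U).ι.appLE (p ⁻¹ᵁ (U.ι ''ᵁ V)) ((p ∣_ U) ⁻¹ᵁ V) e1 :=
      (Scheme.Opens.ι_appLE _ _ _ _).symm
    rw [h1, actHom]
    erw [Scheme.Hom.appLE_comp_appLE, Scheme.Hom.appLE_comp_appLE]
    exact appLE_eq (hρU g) _ _ _
  refine ⟨fun a b hab => h.injective V ((happ' a).trans ((congrArg α hab).trans (happ' b).symm)),
    fun s hs => ?_⟩
  obtain ⟨a, ha⟩ := (h.range_iff V (α s)).2 fun g => (congr($(hact g) s)).trans (congrArg α (hs g))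
  exact ⟨a, hbij.1 ((happ' a).symm.trans ha)⟩

variable (ρ : G →* Aut X)

/-- Invariant opens with a quotient. -/
structure Chart where
  W : X.Opens
  inv : ∀ g : G, (ρ g).hom ⁻¹ᵁ W = W
  ex : ∃ (M : Scheme.{u}) (q : W.toScheme ⟶ M), SGA1.IsQuot (restr ρ W inv) q

variable {ρ} [Finite G]

namespace Chart

/-- The quotient of a chart. -/
def M (c : Chart ρ) : Scheme.{u} := c.ex.choose

/-- The quotient map of a chart. -/
def p (c : Chart ρ) : c.W.toScheme ⟶ c.M := c.ex.choose_spec.choose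

omit [Finite G] in
theorem isQuot (c : Chart ρ) : SGA1.IsQuot (restr ρ c.W c.inv) c.p := c.ex.choose_spec.choose_spec

instance : Preorder (Chart ρ) := Preorder.lift Chart.W

omit [Finite G] in
theorem restr_homOfLE {W V : X.Opens} (hW : ∀ g : G, (ρ g).hom ⁻¹ᵁ W = W)
    (hV : ∀ g : G, (ρ g).hom ⁻¹ᵁ V = V) (h : W ≤ V) (g : G) :
    (restr ρ W hW g).hom ≫ X.homOfLE h = X.homOfLE h ≫ (restr ρ V hV g).hom := by
  rw [← cancel_mono V.ι, Category.assoc, Category.assoc, restr_ι, Scheme.homOfLE_ι, restr_ι,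
    Scheme.homOfLE_ι_assoc]

omit [Finite G] in
theorem inv_homOfLE {c d : Chart ρ} (h : c.W ≤ d.W) (g : G) :
    (restr ρ c.W c.inv g).hom ≫ X.homOfLE h ≫ d.p = X.homOfLE h ≫ d.p := by
  rw [← Category.assoc, restr_homOfLE c.inv d.inv h, Category.assoc, d.isQuot.inv]

/-- The map of quotients. -/
def map {c d : Chart ρ} (h : c.W ≤ d.W) : c.M ⟶ d.M :=
  (desc_unique c.isQuot _ (inv_homOfLE h)).choose

theorem p_map {c d : Chart ρ} (h : c.W ≤ d.W) : c.p ≫ map h = X.homOfLE h ≫ d.p :=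
  (desc_unique c.isQuot _ (inv_homOfLE h)).choose_spec.1

theorem map_comp {c d e : Chart ρ} (h : c.W ≤ d.W) (h' : d.W ≤ e.W) :
    map (h.trans h') = map h ≫ map h' := by
  refine hom_ext c.isQuot ?_
  rw [p_map, reassoc_of% p_map h, p_map h', ← Category.assoc, Scheme.homOfLE_homOfLE]

theorem map_id (c : Chart ρ) : map (le_refl c.W) = 𝟙 c.M := by
  refine hom_ext c.isQuot ?_
  rw [p_map, Scheme.homOfLE_rfl, Category.id_comp, Category.comp_id]

theorem isOpenImmersion_map {c d : Chart ρ} (h : c.W ≤ d.W) : IsOpenImmersion (map h) := by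
  obtain ⟨U, q, hq, hQ, -⟩ := exists_isQuot_of_le d.isQuot (X.homOfLE h) (restr ρ c.W c.inv)
    (restr_homOfLE c.inv d.inv h)
  obtain ⟨e, he⟩ := exists_iso c.isQuot hQ
  have e' : map h = e.hom ≫ U.ι := hom_ext c.isQuot (by rw [p_map, reassoc_of% he, hq])
  rw [e']; infer_instance

/-- A smaller invariant open as a chart. -/
def sub (d : Chart ρ) (W : X.Opens) (hW : ∀ g : G, (ρ g).hom ⁻¹ᵁ W = W) (hle : W ≤ d.W) : Chart ρ :=
  ⟨W, hW, by
    obtain ⟨U, q, -, hQ, -⟩ := exists_isQuot_of_le d.isQuot (X.homOfLE hle) (restr ρ W hW)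
      (restr_homOfLE hW d.inv hle)
    exact ⟨_, q, hQ⟩⟩

/-- The intersection of two charts. -/
def inf (c d : Chart ρ) : Chart ρ :=
  c.sub (c.W ⊓ d.W) (fun g => by rw [Scheme.Hom.preimage_inf, c.inv, d.inv]) inf_le_left

end Chart

variable (ρ)

/-- The diagram of the quotients of the charts. -/
def diagram : Chart ρ ⥤ Scheme.{u} where
  obj c := c.M
  map f := Chart.map f.le
  map_id c := Chart.map_id c
  map_comp f g := Chart.map_comp f.le g.le

instance isOpenImmersion_diagram_map {c d : Chart ρ} (f : c ⟶ d) :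
    IsOpenImmersion ((diagram ρ).map f) :=
  Chart.isOpenImmersion_map _

variable {ρ}

theorem Chart.map_p_apply {i j : Chart ρ} (hij : i.W ≤ j.W) (z : i.W) :
    Chart.map hij (i.p z) = j.p (X.homOfLE hij z) := by
  rw [← Scheme.Hom.comp_apply, Chart.p_map, Scheme.Hom.comp_apply]

omit [Finite G] in
theorem Chart.act_val {c : Chart ρ} (g : G) (z : c.W) :
    ((restr ρ c.W c.inv g).hom z).1 = (ρ g).hom z.1 :=
  congr($(restr_ι ρ c.W c.inv g) z)

omit [Finite G] in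
theorem homOfLE_val {W V : X.Opens} (h : W ≤ V) (z : W) : (X.homOfLE h z).1 = z.1 :=
  congr($(X.homOfLE_ι h) z)

theorem exists_mem_inf {c d e : Chart ρ} (hc : c.W ≤ e.W) (hd : d.W ≤ e.W) {a : c.W} {b : d.W}
    (h : Chart.map hc (c.p a) = Chart.map hd (d.p b)) :
    ∃ z : (c.inf d).W, Chart.map (c := c.inf d) (d := c) inf_le_left ((c.inf d).p z) = c.p a ∧
      Chart.map (c := c.inf d) (d := d) inf_le_right ((c.inf d).p z) = d.p b := by
  rw [Chart.map_p_apply, Chart.map_p_apply] at h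
  obtain ⟨g, hg⟩ := orbit e.isQuot _ _ h
  have hg' : (ρ g).hom a.1 = b.1 := by
    have := congrArg Subtype.val hg
    rwa [Chart.act_val, homOfLE_val, homOfLE_val] at this
  have had : a.1 ∈ d.W := (d.inv g).le (show (ρ g).hom a.1 ∈ d.W from hg' ▸ b.2)
  let z : (c.inf d).W := ⟨a.1, a.2, had⟩
  refine ⟨z, ?_, ?_⟩
  · rw [Chart.map_p_apply]
    exact congrArg c.p (Subtype.ext (homOfLE_val _ z))
  · rw [Chart.map_p_apply, orbit_iff d.isQuot]
    exact ⟨g, Subtype.ext (by rw [Chart.act_val, homOfLE_val]; exact hg')⟩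

instance isLocallyDirected_diagram : (diagram ρ ⋙ Scheme.forget).IsLocallyDirected := ⟨by
  intro c d e fi fj xi xj h
  obtain ⟨a, rfl⟩ := surjective c.isQuot xi
  obtain ⟨b, rfl⟩ := surjective d.isQuot xj
  obtain ⟨z, h1, h2⟩ := exists_mem_inf fi.le fj.le h
  exact ⟨c.inf d, homOfLE (show (c.inf d).W ≤ c.W from inf_le_left),
    homOfLE (show (c.inf d).W ≤ d.W from inf_le_right), _, h1, h2⟩⟩

variable (ρ)

/-- The glued quotient. -/
abbrev Quot : Scheme.{u} := colimit (diagram ρ)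

variable {ρ}

/-- The inclusion of the quotient of a chart. -/
abbrev Chart.ι (c : Chart ρ) : c.M ⟶ Quot ρ := colimit.ι (diagram ρ) c

instance Chart.isOpenImmersion_ι (c : Chart ρ) : IsOpenImmersion c.ι :=
  inferInstanceAs (IsOpenImmersion (colimit.ι (diagram ρ) c))

theorem Chart.map_ι {c d : Chart ρ} (h : c.W ≤ d.W) : Chart.map h ≫ d.ι = c.ι :=
  colimit.w (diagram ρ) (homOfLE h)

variable (hcov : ∀ x : X, ∃ c : Chart ρ, x ∈ c.W)

/-- The cover by charts. -/
def cover : X.OpenCover :=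
  Scheme.Cover.mkOfCovers (Chart ρ) (fun c => c.W.toScheme) (fun c => c.W.ι)
    (fun x => ⟨(hcov x).choose, ⟨x, (hcov x).choose_spec⟩, rfl⟩) (fun _ => inferInstance)

theorem cover_compat (c d : Chart ρ) :
    pullback.fst c.W.ι d.W.ι ≫ c.p ≫ c.ι = pullback.snd c.W.ι d.W.ι ≫ d.p ≫ d.ι := by
  have key : ∀ {i : Chart ρ} (h : (c.inf d).W ≤ i.W),
      X.homOfLE h ≫ i.p ≫ i.ι = (c.inf d).p ≫ (c.inf d).ι := fun h => by
    rw [← Category.assoc, ← Chart.p_map h, Category.assoc, Chart.map_ι]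
  have sq := isPullback_opens_inf c.W d.W
  rw [← cancel_epi sq.isoPullback.hom, IsPullback.isoPullback_hom_fst_assoc,
    IsPullback.isoPullback_hom_snd_assoc]
  exact (key (i := c) inf_le_left).trans (key (i := d) inf_le_right).symm

/-- The quotient map. -/
def toGlued : X ⟶ Quot ρ := (cover hcov).glueMorphisms (fun c => c.p ≫ c.ι) cover_compat

theorem ι_toGlued (c : Chart ρ) : c.W.ι ≫ toGlued hcov = c.p ≫ c.ι :=
  (cover hcov).ι_glueMorphisms _ _ c

theorem toGlued_inv (g : G) : (ρ g).hom ≫ toGlued hcov = toGlued hcov := by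
  refine Scheme.Cover.hom_ext (cover hcov) _ _ fun c => ?_
  show c.W.ι ≫ (ρ g).hom ≫ toGlued hcov = c.W.ι ≫ toGlued hcov
  rw [← reassoc_of% (restr_ι ρ c.W c.inv g), ι_toGlued, reassoc_of% (c.isQuot.inv g)]

theorem toGlued_apply (c : Chart ρ) (a : c.W) : toGlued hcov a.1 = c.ι (c.p a) :=
  congr($(ι_toGlued hcov c) a)

theorem isPullback_toGlued (c : Chart ρ) : IsPullback c.p c.W.ι c.ι (toGlued hcov) := by
  refine IsOpenImmersion.isPullback c.p c.W.ι c.ι (toGlued hcov) (ι_toGlued hcov c) ?_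
  rw [Scheme.Opens.opensRange_ι]
  ext x
  constructor
  · rintro ⟨z, hz⟩
    obtain ⟨d, hx⟩ := hcov x
    obtain ⟨a, rfl⟩ := surjective c.isQuot z
    rw [toGlued_apply hcov d ⟨x, hx⟩] at hz
    obtain ⟨k, fi, fj, w, hw₁, hw₂⟩ :=
      (Scheme.IsLocallyDirected.ι_eq_ι_iff (diagram ρ)).1 hz
    obtain ⟨w, rfl⟩ := surjective k.isQuot w
    change Chart.map fi.le (k.p w) = c.p a at hw₁
    change Chart.map fj.le (k.p w) = d.p ⟨x, hx⟩ at hw₂
    rw [Chart.map_p_apply] at hw₁ hw₂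
    obtain ⟨g, hg⟩ := orbit d.isQuot _ _ hw₂
    have hwx : (ρ g).hom w.1 = x := by
      have := congrArg Subtype.val hg
      rwa [Chart.act_val, homOfLE_val] at this
    have hwc : w.1 ∈ c.W := fi.le w.2
    rw [← hwx]
    exact (c.inv g).ge hwc
  · exact fun hx => ⟨c.p ⟨x, hx⟩, (toGlued_apply hcov c ⟨x, hx⟩).symm⟩

omit [Finite G] in
/-- The affine quotient. -/
theorem exists_isQuot_of_isAffine [Finite G] [IsAffine X] (ρ : G →* Aut X) :
    ∃ (M : Scheme.{u}) (q : X ⟶ M), IsAffine M ∧ SGA1.IsQuot ρ q := by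
  let R : Subring Γ(X, ⊤) :=
    { carrier := {b | ∀ g : G, (ρ g).hom.appTop b = b}
      zero_mem' := fun g => map_zero _
      one_mem' := fun g => map_one _
      add_mem' := fun {a b} ha hb g => by rw [map_add, ha g, hb g]
      mul_mem' := fun {a b} ha hb g => by rw [map_mul, ha g, hb g]
      neg_mem' := fun {a} ha g => by rw [map_neg, ha g] }
  let φ : CommRingCat.of R ⟶ Γ(X, ⊤) := CommRingCat.ofHom R.subtype
  let q : X ⟶ Spec (CommRingCat.of R) := X.toSpecΓ ≫ Spec.map φ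
  have hq : q.appTop = (Scheme.ΓSpecIso (CommRingCat.of R)).hom ≫ φ := by
    simp [q, Scheme.Hom.comp_appTop, Scheme.ΓSpecIso_naturality]
  have hφ : ∀ g : G, φ ≫ (ρ g).hom.appTop = φ := fun g => by
    ext b
    exact b.2 g
  have hinv : ∀ g : G, (ρ g).hom ≫ q = q := fun g => by
    simp only [q]
    rw [← Category.assoc, Scheme.toSpecΓ_naturality, Category.assoc, ← Spec.map_comp, hφ]
  haveI : IsAffineHom q := isAffineHom_of_isAffine q
  refine ⟨_, q, inferInstance,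
    of_affineCover inferInstance hinv fun _ => ⟨⊤, isAffineOpen_top _, trivial, ?_, fun s hs => ?_⟩⟩
  · show Function.Injective q.appTop
    rw [hq]
    exact (Subtype.val_injective).comp
      (ConcreteCategory.bijective_of_isIso (Scheme.ΓSpecIso (CommRingCat.of R)).hom).1
  · have hmem : s ∈ R := fun g => by
      refine Eq.trans ?_ (hs g)
      rw [actHom]
      erw [Scheme.Hom.appLE_eq_app]
      rfl
    refine ⟨(Scheme.ΓSpecIso (CommRingCat.of R)).inv ⟨s, hmem⟩, ?_⟩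
    show q.appTop _ = s
    rw [hq, CommRingCat.comp_apply, Iso.inv_hom_id_apply]
    rfl

omit [Finite G] in
/-- Invariant affine neighbourhoods of orbits. -/
theorem exists_invariant_affine [Finite G] (ρ : G →* Aut X) (x : X) (U : X.Opens)
    (hU : IsAffineOpen U) (hx : ∀ g : G, (ρ g).hom x ∈ U) :
    ∃ W : X.Opens, IsAffineOpen W ∧ x ∈ W ∧ W ≤ U ∧ ∀ g : G, (ρ g).hom ⁻¹ᵁ W = W := by
  cases nonempty_fintype G
  let V' : X.Opens :=
    ⟨⋂ g : G, (ρ g).hom ⁻¹' (U : Set X), isOpen_iInter_of_finite fun g => U.2.preimage (ρ g).hom.continuous⟩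
  have hV'U : V' ≤ U := fun y hy => by
    have := Set.mem_iInter.1 hy 1
    rwa [Set.mem_preimage, map_one_hom] at this
  obtain ⟨f, hfV', hfP⟩ := Groth.Agent.GrpQuot.exists_basicOpen_mem_finite hU
    (Set.finite_range fun g : G => (ρ g).hom x) V' hV'U (by
      rintro _ ⟨g, rfl⟩
      exact Set.mem_iInter.2 fun h => by
        show (ρ h).hom ((ρ g).hom x) ∈ U
        rw [act_apply_apply]; exact hx _)
  set D := X.basicOpen f
  let W : X.Opens :=
    ⟨⋂ g : G, (ρ g).hom ⁻¹' (D : Set X), isOpen_iInter_of_finite fun g => D.2.preimage (ρ g).hom.continuous⟩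
  have hWD : W ≤ D := fun y hy => by
    have := Set.mem_iInter.1 hy 1
    rwa [Set.mem_preimage, map_one_hom] at this
  have hle : ∀ g : G, D ≤ (ρ g).hom ⁻¹ᵁ U := fun g y hy => Set.mem_iInter.1 (hfV' hy) g
  refine ⟨W, ?_, Set.mem_iInter.2 fun g => hfP ⟨g, rfl⟩, hWD.trans (X.basicOpen_le f), fun g => ?_⟩
  · have : W = X.basicOpen (∏ g : G, (ρ g).hom.appLE U D (hle g) f) := by
      ext y
      by_cases hy : y ∈ D
      · rw [SetLike.mem_coe, SetLike.mem_coe, Scheme.mem_basicOpen _ _ _ hy, map_prod,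
          IsUnit.prod_univ_iff]
        change y ∈ (W : Set X) ↔ _
        rw [show (W : Set X) = ⋂ g : G, (ρ g).hom ⁻¹' (D : Set X) from rfl, Set.mem_iInter]
        refine forall_congr' fun g => ?_
        rw [← Scheme.mem_basicOpen _ _ _ hy, Scheme.basicOpen_appLE]
        exact ⟨fun h => ⟨hy, h⟩, fun h => h.2⟩
      · exact iff_of_false (fun h => hy (hWD h)) (fun h => hy (X.basicOpen_le _ h))
    rw [this]
    exact (hU.basicOpen f).basicOpen _
  · ext y
    show (ρ g).hom y ∈ (W : Set X) ↔ y ∈ (W : Set X)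
    rw [show (W : Set X) = ⋂ g : G, (ρ g).hom ⁻¹' (D : Set X) from rfl, Set.mem_iInter, Set.mem_iInter]
    refine ⟨fun h k => ?_, fun h k => ?_⟩
    · have := h (k * g⁻¹)
      rwa [Set.mem_preimage, act_apply_apply, inv_mul_cancel_right] at this
    · have := h (k * g)
      rwa [Set.mem_preimage, ← act_apply_apply] at this

include hcov in
theorem isQuot_toGlued
    (haff : ∀ x : X, ∃ c : Chart ρ, x ∈ c.W ∧ IsAffine c.M) : SGA1.IsQuot ρ (toGlued hcov) := by
  choose c hc hM using haff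
  have hsurjQ : ∀ y : Quot ρ, ∃ x : X, y ∈ (c x).ι.opensRange := by
    intro y
    obtain ⟨d, z, rfl⟩ := Scheme.IsLocallyDirected.ι_jointly_surjective (diagram ρ) y
    obtain ⟨a, rfl⟩ := surjective d.isQuot z
    exact ⟨a.1, (c a.1).p ⟨a.1, hc a.1⟩, by
      rw [← toGlued_apply hcov (c a.1) ⟨a.1, hc a.1⟩]
      exact toGlued_apply hcov d a⟩
  haveI : IsAffineHom (toGlued hcov) := by
    let 𝒱 : (Quot ρ).OpenCover := Scheme.Cover.mkOfCovers X (fun x => (c x).M) (fun x => (c x).ι)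
      (fun y => by
        obtain ⟨x, z, hz⟩ := hsurjQ y
        exact ⟨x, z, hz⟩) (fun _ => inferInstance)
    refine IsZariskiLocalAtTarget.of_openCover 𝒱 fun x => ?_
    have sq := (isPullback_toGlued hcov (c x)).flip
    show IsAffineHom (pullback.snd (toGlued hcov) (c x).ι)
    rw [← sq.isoPullback_inv_snd]
    haveI := (c x).isQuot.affine
    infer_instance
  refine of_affineCover inferInstance (toGlued_inv hcov) fun y => ?_
  obtain ⟨x, hy⟩ := hsurjQ y
  haveI := hM x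
  refine ⟨(c x).ι.opensRange, isAffineOpen_opensRange _, hy, ?_⟩
  set d := c x
  set U := d.ι.opensRange
  have sq := isPullback_toGlued hcov d
  have hr : toGlued hcov ⁻¹ᵁ U = d.W := by
    ext z
    constructor
    · intro hz
      obtain ⟨m, hm⟩ := hz
      obtain ⟨l, hl₁, hl₂⟩ := Scheme.Pullback.exists_preimage_pullback (f := d.ι) (g := toGlued hcov) m z hm
      have := congrArg (fun f => f l) sq.isoPullback_inv_snd
      simp only [Scheme.Hom.comp_apply] at this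
      rw [← hl₂, ← this]
      exact (sq.isoPullback.inv l).2
    · intro hz
      exact ⟨d.p ⟨z, hz⟩, (toGlued_apply hcov d ⟨z, hz⟩).symm⟩
  let e : (toGlued hcov ⁻¹ᵁ U).toScheme ≅ d.W.toScheme := X.isoOfEq hr
  let eU : d.M ≅ U.toScheme := d.ι.isoOpensRange
  have hq : toGlued hcov ∣_ U = e.hom ≫ d.p ≫ eU.hom := by
    rw [← cancel_mono U.ι, morphismRestrict_ι, Category.assoc, Category.assoc,
      Scheme.Hom.isoOpensRange_hom_ι, ← ι_toGlued hcov d, Scheme.isoOfEq_hom_ι_assoc]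
  have hinvU := preimage_inv_of_inv ρ (toGlued_inv hcov) U
  have hQ : SGA1.IsQuot (restr ρ d.W d.inv) (d.p ≫ eU.hom) := by
    haveI := d.isQuot.affine
    exact isQuot_comp_iso d.isQuot eU
  have h := of_iso_left hQ e (restr ρ _ hinvU) (fun g => by
    rw [← cancel_mono d.W.ι, Category.assoc, Category.assoc, Scheme.isoOfEq_hom_ι, restr_ι,
      restr_ι, Scheme.isoOfEq_hom_ι_assoc])
  rw [← hq] at h
  exact goodAt_of_restrict (toGlued_inv hcov) U (restr ρ _ hinvU) (restr_ι ρ _ hinvU) h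

end Groth.Agent.IsQuot25

namespace Groth.Agent.IsQuot25

/-- Quotients exist when every orbit lies in an affine open. -/
theorem exists_isQuot {X : Scheme.{u}} {G : Type u} [Group G] [Finite G] (ρ : G →* Aut X)
    (h : ∀ x : X, ∃ U : X.Opens, IsAffineOpen U ∧ ∀ g : G, (ρ g).hom.base x ∈ U) :
    ∃ (Y : Scheme.{u}) (p : X ⟶ Y), SGA1.IsQuot ρ p := by
  have key : ∀ x : X, ∃ c : Chart ρ, x ∈ c.W ∧ IsAffine c.M := by
    intro x
    obtain ⟨U, hU, hx⟩ := h x
    obtain ⟨W, hW, hxW, -, hWi⟩ := exists_invariant_affine ρ x U hU hx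
    haveI : IsAffine W.toScheme := hW
    obtain ⟨M, q, hMa, hq⟩ := exists_isQuot_of_isAffine (restr ρ W hWi)
    let c : Chart ρ := ⟨W, hWi, M, q, hq⟩
    obtain ⟨e, -⟩ := exists_iso c.isQuot hq
    exact ⟨c, hxW, IsAffine.of_isIso e.hom⟩
  have hcov : ∀ x : X, ∃ c : Chart ρ, x ∈ c.W := fun x => (key x).imp fun c hc => hc.1
  exact ⟨_, _, isQuot_toGlued hcov key⟩

end Groth.Agent.IsQuot25
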