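import Groth.Agent.Lib.IsQuot25.Basic
import Mathlib.Algebra.Polynomial.GroupRingAction
import Mathlib.RingTheory.Polynomial.Basic
import Mathlib.AlgebraicGeometry.ResidueField

/-!
# Fibres on points with values in a field
-/

set_option autoImplicit false
set_option backward.isDefEq.respectTransparency.types false
universe u

open CategoryTheory AlgebraicGeometry

namespace Groth.Agent.IsQuot25

open Polynomial in
/-- Two homomorphisms to a domain agreeing on invariants differ by the group. -/
theorem exists_smul_of_eq_on_invariants {G B K : Type*} [Group G] [Finite G] [CommRing B]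
    [MulSemiringAction G B] [CommRing K] [IsDomain K] (α β : B →+* K)
    (h : ∀ b : B, (∀ g : G, g • b = b) → α b = β b) : ∃ g : G, ∀ b, β b = α (g • b) := by
  cases nonempty_fintype G
  by_contra hne
  push Not at hne
  choose s hs using hne
  let e : G ≃ Fin (Fintype.card G) := Fintype.equivFin G
  let f : B[X] := ∑ g : G, monomial (e g).1 (s g)
  have hf : ∀ g, f.coeff (e g).1 = s g := fun g => by
    simp only [f, finsetSum_coeff, coeff_monomial]
    rw [Finset.sum_eq_single g (fun x _ hx => if_neg fun he => hx (e.injective (Fin.ext he))) (by simp), if_pos rfl]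
  let α' : B[X] →+* K[X] := mapRingHom α
  let β' : B[X] →+* K[X] := mapRingHom β
  have hinv : ∀ p : B[X], (∀ g : G, g • p = p) → α' p = β' p := fun p hp => by
    ext n
    simp only [α', β', coe_mapRingHom, coeff_map]
    exact h _ fun g => by rw [← Polynomial.coeff_smul, hp g]
  have hc : (MulSemiringAction.charpoly G f).map α' = (MulSemiringAction.charpoly G f).map β' := by
    ext1 n
    simp only [coeff_map]
    exact hinv _ fun g => MulSemiringAction.smul_coeff_charpoly f n g
  have h0 : ((MulSemiringAction.charpoly G f).map α').eval (β' f) = 0 := by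
    rw [hc, eval_map_apply, MulSemiringAction.eval_charpoly, map_zero]
  rw [MulSemiringAction.charpoly_eq, Polynomial.map_prod, eval_prod, Finset.prod_eq_zero_iff] at h0
  obtain ⟨g, -, hg⟩ := h0
  rw [Polynomial.map_sub, map_X, map_C, eval_sub, eval_X, eval_C, sub_eq_zero] at hg
  have := congrArg (fun q => Polynomial.coeff q (e g).1) hg
  simp only [α', β', coe_mapRingHom, coeff_map, Polynomial.coeff_smul, hf] at this
  exact hs g this

variable {X Y : Scheme.{u}} {G : Type u} [Group G] [Finite G] {ρ : G →* Aut X} {p : X ⟶ Y}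

/-- Two field valued points with the same image in the quotient differ by the group. -/
theorem exists_act_of_comp_eq (hp : SGA1.IsQuot ρ p) {K : Type u} [Field K]
    (a b : Spec (CommRingCat.of K) ⟶ X) (h : a ≫ p = b ≫ p) :
    ∃ g : G, a ≫ (ρ g).hom = b := by
  let pt : Spec (CommRingCat.of K) := IsLocalRing.closedPoint K
  obtain ⟨U, hU, hyU, -⟩ :=
    exists_isAffineOpen_mem_and_subset (show p (a pt) ∈ (⊤ : Y.Opens) from trivial)
  have hV := isAffineOpen_preimage hp hU
  have hmem : ∀ c : Spec (CommRingCat.of K) ⟶ X, p (c pt) ∈ U →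
      ∃ γ : Γ(X, p ⁻¹ᵁ U) ⟶ CommRingCat.of K, Spec.map γ ≫ hV.fromSpec = c := by
    intro c hc
    refine ⟨Spec.preimage (IsOpenImmersion.lift hV.fromSpec c ?_), ?_⟩
    · rintro _ ⟨s, rfl⟩
      rw [hV.range_fromSpec]
      rw [Subsingleton.elim s pt]
      exact hc
    · rw [Spec.map_preimage, IsOpenImmersion.lift_fac]
  obtain ⟨α, hα⟩ := hmem a hyU
  obtain ⟨β, hβ⟩ := hmem b (by
    have e := congr($h pt)
    simp only [Scheme.Hom.comp_apply] at e
    rw [← e]; exact hyU)
  have happ : p.app U ≫ α = p.app U ≫ β := by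
    apply Spec.map_injective
    rw [← cancel_mono hU.fromSpec, Spec.map_comp, Spec.map_comp, Category.assoc, Category.assoc,
      Scheme.Hom.app_eq_appLE, hU.SpecMap_appLE_fromSpec p hV, reassoc_of% hα, reassoc_of% hβ, h]
  letI := action hp.inv U
  obtain ⟨g, hg⟩ := exists_smul_of_eq_on_invariants (G := G) α.hom β.hom fun s hs => by
    obtain ⟨t, rfl⟩ := (mem_range_iff hp U s).2 fun g => by
      have := hs g⁻¹
      change actHom hp.inv U g⁻¹⁻¹ s = s at this
      rwa [inv_inv] at this
    exact congr($happ t)
  refine ⟨g⁻¹, ?_⟩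
  have e : β = actHom hp.inv U g⁻¹ ≫ α := by
    ext s
    exact hg s
  rw [← hβ, e, Spec.map_comp, Category.assoc, actHom, hV.SpecMap_appLE_fromSpec _ hV, reassoc_of% hα]

end Groth.Agent.IsQuot25
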