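import Groth.Agent.Lib.IsQuot25.Exists
import Groth.Agent.Lib.IsQuot25.Points
import Mathlib.AlgebraicGeometry.Morphisms.Finite
import Mathlib.AlgebraicGeometry.Morphisms.Separated
import Mathlib.AlgebraicGeometry.Morphisms.ClosedImmersion
import Mathlib.AlgebraicGeometry.Noetherian
import Mathlib.RingTheory.Adjoin.Tower

/-!
# Properties inherited by quotients by finite groups
-/

set_option autoImplicit false
set_option backward.isDefEq.respectTransparency.types false
universe u

open CategoryTheory CategoryTheory.Limits AlgebraicGeometry TopologicalSpace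

namespace Groth.Agent.IsQuot25

variable {X Y : Scheme.{u}} {G : Type u} [Group G] [Finite G] {ρ : G →* Aut X} {p : X ⟶ Y}

theorem isFinite (hp : SGA1.IsQuot ρ p) [LocallyOfFiniteType p] : IsFinite p :=
  (IsFinite.iff_isIntegralHom_and_locallyOfFiniteType p).2 ⟨isIntegralHom hp, ‹_›⟩

theorem isFinite_of_comp (hp : SGA1.IsQuot ρ p) {Z : Scheme.{u}} (q : Y ⟶ Z)
    [LocallyOfFiniteType (p ≫ q)] : IsFinite p :=
  haveI := locallyOfFiniteType_of_comp p q
  isFinite hp

theorem isAffineHom_iff (hp : SGA1.IsQuot ρ p) {Z : Scheme.{u}} (q : Y ⟶ Z) :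
    IsAffineHom (p ≫ q) ↔ IsAffineHom q := by
  haveI := hp.affine
  refine ⟨fun h => ⟨fun W hW => ?_⟩, fun h => inferInstance⟩
  let V : Y.Opens := q ⁻¹ᵁ W
  haveI : IsAffine (p ⁻¹ᵁ V).toScheme := hW.preimage (p ≫ q)
  have hi := preimage_inv_of_inv ρ hp.inv V
  have hV := morphismRestrict hp V (restr ρ _ hi) (restr_ι ρ _ hi)
  obtain ⟨M, π, hM, hπ⟩ := exists_isQuot_of_isAffine (restr ρ _ hi)
  obtain ⟨e, -⟩ := exists_iso hV hπ
  exact IsAffine.of_isIso e.hom

/-- The diagonal of the quotient pulls back to the union of the graphs. -/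
theorem preimage_range_diagonal (hp : SGA1.IsQuot ρ p) {Z : Scheme.{u}} (q : Y ⟶ Z)
    (z : (pullback (p ≫ q) (p ≫ q) : Scheme)) :
    pullback.map (p ≫ q) (p ≫ q) q q p p (𝟙 Z) (Category.comp_id _) (Category.comp_id _) z ∈
        Set.range (pullback.diagonal q) ↔
      ∃ g : G, z ∈ Set.range (pullback.lift (f := p ≫ q) (g := p ≫ q) (𝟙 X) (ρ g).hom
        (by rw [Category.id_comp, reassoc_of% (hp.inv g)])) := by
  set Ψ := pullback.map (p ≫ q) (p ≫ q) q q p p (𝟙 Z) (Category.comp_id _) (Category.comp_id _) with hΨ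
  constructor
  · rintro ⟨y, hy⟩
    let k := (pullback (p ≫ q) (p ≫ q) : Scheme).residueField z
    let c : Spec (CommRingCat.of k) ⟶ (pullback (p ≫ q) (p ≫ q) : Scheme) :=
      Scheme.fromSpecResidueField _ z
    have hd : pullback.fst q q (Ψ z) = pullback.snd q q (Ψ z) ∧
        Ψ z ∈ Set.range (pullback.diagonal q) := by
      refine ⟨?_, y, hy⟩
      rw [← hy, ← Scheme.Hom.comp_apply, ← Scheme.Hom.comp_apply]
      simp
    have hrange : Set.range (c ≫ Ψ) ⊆ Set.range (pullback.diagonal q) := by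
      rintro _ ⟨s, rfl⟩
      rw [Scheme.Hom.comp_apply, show c s = z from Scheme.fromSpecResidueField_apply z s]
      exact hd.2
    have hab : (c ≫ pullback.fst _ _) ≫ p = (c ≫ pullback.snd _ _) ≫ p := by
      obtain ⟨l, hl⟩ : ∃ l, l ≫ pullback.diagonal q = c ≫ Ψ := by
        let π := pullback.snd (pullback.diagonal q) (c ≫ Ψ)
        have hs : Set.range π = Set.univ := by
          rw [Scheme.Pullback.range_snd]
          exact Set.eq_univ_of_forall fun t => hrange ⟨t, rfl⟩
        haveI : IsClosedImmersion π := .of_isPreimmersion _ (by rw [hs]; exact isClosed_univ)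
        haveI : Surjective π := ⟨Set.range_eq_univ.1 hs⟩
        haveI : IsIso π := isIso_of_isClosedImmersion_of_surjective π
        exact ⟨inv π ≫ pullback.fst _ _, by
          rw [Category.assoc, pullback.condition, IsIso.inv_hom_id_assoc]⟩
      have h1 := congrArg (· ≫ pullback.fst q q) hl
      have h2 := congrArg (· ≫ pullback.snd q q) hl
      simp only [Category.assoc, pullback.diagonal_fst, pullback.diagonal_snd, Category.comp_id, hΨ,
        pullback.map, pullback.lift_fst, pullback.lift_snd] at h1 h2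
      rw [Category.assoc, Category.assoc, ← h1, ← h2]
    obtain ⟨g, hg⟩ := exists_act_of_comp_eq hp _ _ hab
    refine ⟨g, (c ≫ pullback.fst _ _) (IsLocalRing.closedPoint k), ?_⟩
    rw [← Scheme.Hom.comp_apply]
    have e : (c ≫ pullback.fst (p ≫ q) (p ≫ q)) ≫ pullback.lift (f := p ≫ q) (g := p ≫ q) (𝟙 X) (ρ g).hom
        (by rw [Category.id_comp, reassoc_of% (hp.inv g)]) = c := by
      apply pullback.hom_ext
      · rw [Category.assoc, pullback.lift_fst, Category.comp_id]
      · rw [Category.assoc, pullback.lift_snd, hg]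
    rw [e]
    exact Scheme.fromSpecResidueField_apply z _
  · rintro ⟨g, x, rfl⟩
    refine ⟨p x, ?_⟩
    rw [← Scheme.Hom.comp_apply, ← Scheme.Hom.comp_apply]
    refine congrArg (fun m : X ⟶ _ => m x) ?_
    apply pullback.hom_ext
    · simp [hΨ, pullback.map, pullback.lift_fst, pullback.lift_fst_assoc]
    · simp [hΨ, pullback.map, pullback.lift_snd, pullback.lift_snd_assoc, hp.inv g]

theorem isSeparated_iff (hp : SGA1.IsQuot ρ p) {Z : Scheme.{u}} (q : Y ⟶ Z) :
    IsSeparated (p ≫ q) ↔ IsSeparated q := by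
  haveI := hp.affine
  refine ⟨fun h => ⟨IsClosedImmersion.of_isPreimmersion _ ?_⟩, fun h => inferInstance⟩
  set Ψ := pullback.map (p ≫ q) (p ≫ q) q q p p (𝟙 Z) (Category.comp_id _) (Category.comp_id _)
  haveI := isIntegralHom hp
  haveI : IsIntegralHom Ψ :=
    MorphismProperty.pullbackMap (P := @IsIntegralHom) (isIntegralHom hp) (isIntegralHom hp) rfl rfl
  haveI : Surjective p := ⟨surjective hp⟩
  haveI : Surjective Ψ :=
    MorphismProperty.pullbackMap (P := @Surjective) ‹Surjective p› ‹Surjective p› rfl rfl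
  rw [← Set.image_preimage_eq (Set.range (pullback.diagonal q)) Ψ.surjective]
  refine Ψ.isClosedMap _ ?_
  have : Ψ ⁻¹' Set.range (pullback.diagonal q) = ⋃ g : G,
      Set.range (pullback.lift (f := p ≫ q) (g := p ≫ q) (𝟙 X) (ρ g).hom
        (by rw [Category.id_comp, reassoc_of% (hp.inv g)])) := by
    ext z
    rw [Set.mem_iUnion, Set.mem_preimage]
    exact preimage_range_diagonal hp q z
  rw [this]
  refine isClosed_iUnion_of_finite fun g => ?_
  haveI : IsClosedImmersion (pullback.lift (f := p ≫ q) (g := p ≫ q) (𝟙 X) (ρ g).hom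
      (by rw [Category.id_comp, reassoc_of% (hp.inv g)])) := by
    haveI : IsClosedImmersion ((pullback.lift (f := p ≫ q) (g := p ≫ q) (𝟙 X) (ρ g).hom
      (by rw [Category.id_comp, reassoc_of% (hp.inv g)])) ≫ pullback.fst _ _) := by
      rw [pullback.lift_fst]; infer_instance
    exact IsClosedImmersion.of_comp _ (pullback.fst _ _)
  exact (Scheme.Hom.isClosedEmbedding _).isClosed_range

theorem locallyOfFiniteType (hp : SGA1.IsQuot ρ p) {Z : Scheme.{u}} [IsLocallyNoetherian Z]
    (q : Y ⟶ Z) [LocallyOfFiniteType (p ≫ q)] : LocallyOfFiniteType q := by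
  haveI := isFinite_of_comp hp q
  rw [HasRingHomProperty.iff_appLE (P := @LocallyOfFiniteType)]
  rintro ⟨W, hW⟩ ⟨V, hV⟩ e
  have hV' := isAffineOpen_preimage hp hV
  have e' : p ⁻¹ᵁ V ≤ (p ≫ q) ⁻¹ᵁ W := (Opens.map p.base).monotone e
  have hC : ((p ≫ q).appLE W (p ⁻¹ᵁ V) e').hom.FiniteType :=
    HasRingHomProperty.appLE @LocallyOfFiniteType (p ≫ q) ‹_› ⟨W, hW⟩ ⟨p ⁻¹ᵁ V, hV'⟩ e'
  have hB : (p.app V).hom.Finite := p.finite_app V hV
  haveI : IsNoetherianRing Γ(Z, W) := IsLocallyNoetherian.component_noetherian ⟨W, hW⟩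
  letI := (q.appLE W V e).hom.toAlgebra
  letI := (p.app V).hom.toAlgebra
  letI := ((p ≫ q).appLE W (p ⁻¹ᵁ V) e').hom.toAlgebra
  haveI : IsScalarTower Γ(Z, W) Γ(Y, V) Γ(X, p ⁻¹ᵁ V) := .of_algebraMap_eq' (by
    show ((p ≫ q).appLE W (p ⁻¹ᵁ V) e').hom = (p.app V).hom.comp (q.appLE W V e).hom
    rw [← CommRingCat.hom_comp, p.app_eq_appLE, Scheme.Hom.appLE_comp_appLE])
  haveI : Module.Finite Γ(Y, V) Γ(X, p ⁻¹ᵁ V) := hB
  haveI : Algebra.FiniteType Γ(Z, W) Γ(X, p ⁻¹ᵁ V) := hC
  exact ⟨fg_of_fg_of_fg Γ(Z, W) Γ(Y, V) Γ(X, p ⁻¹ᵁ V) Algebra.FiniteType.out Module.Finite.fg_top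
    (hp.injective V)⟩

theorem quasiCompact (hp : SGA1.IsQuot ρ p) {Z : Scheme.{u}}
    (q : Y ⟶ Z) [QuasiCompact (p ≫ q)] : QuasiCompact q :=
  ⟨fun S hS hc => by
    have := (QuasiCompact.isCompact_preimage (f := p ≫ q) S hS hc).image p.continuous
    rwa [Scheme.Hom.comp_base, TopCat.coe_comp, Set.preimage_comp,
      Set.image_preimage_eq _ (surjective hp)] at this⟩

end Groth.Agent.IsQuot25
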