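import Groth.Agent.Lib.IsQuot25.GalExt
import Groth.Agent.Lib.IsQuot25.Props
import Mathlib.AlgebraicGeometry.Morphisms.Etale
import Mathlib.AlgebraicGeometry.Morphisms.FlatMono
import Mathlib.AlgebraicGeometry.Morphisms.IsIso
import Mathlib.AlgebraicGeometry.AlgClosed.Basic
import Mathlib.FieldTheory.IsAlgClosed.AlgebraicClosure

/-!
# Quotients by free actions are étale torsors
-/

set_option autoImplicit false
set_option backward.isDefEq.respectTransparency.types false
universe u

open CategoryTheory CategoryTheory.Limits AlgebraicGeometry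

namespace Groth.Agent.IsQuot25

variable {X Y : Scheme.{u}} {G : Type u} [Group G]

/-- No nontrivial element fixes a geometric point. -/
def Free (ρ : G →* Aut X) : Prop :=
  ∀ (K : Type u) [Field K] [IsAlgClosed K] (ξ : Spec (CommRingCat.of K) ⟶ X) (g : G),
    ξ ≫ (ρ g).hom = ξ → g = 1

variable {ρ : G →* Aut X} {p : X ⟶ Y}

theorem Free.eq_of_fix (hfree : Free ρ) {K : Type u} [Field K]
    (ξ : Spec (CommRingCat.of K) ⟶ X) (g : G) (h : ξ ≫ (ρ g).hom = ξ) : g = 1 :=
  hfree (AlgebraicClosure K) (Spec.map (CommRingCat.ofHom (algebraMap K (AlgebraicClosure K))) ≫ ξ) g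
    (by rw [Category.assoc, h])

theorem span_eq_top (hp : SGA1.IsQuot ρ p) (hfree : Free ρ) {U : Y.Opens} (hU : IsAffineOpen U) (g : G) (hg : g ≠ 1) :
    letI := action hp.inv U
    Ideal.span (Set.range fun b : Γ(X, p ⁻¹ᵁ U) => b - g • b) = ⊤ := by
  letI := action hp.inv U
  by_contra hne
  obtain ⟨m, hm, hle⟩ := Ideal.exists_le_maximal _ hne
  have hV := isAffineOpen_preimage hp hU
  let K := Γ(X, p ⁻¹ᵁ U) ⧸ m
  letI : Field K := Ideal.Quotient.field m
  let α : Γ(X, p ⁻¹ᵁ U) ⟶ CommRingCat.of K := CommRingCat.ofHom (Ideal.Quotient.mk m)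
  have hfix : actHom hp.inv U g⁻¹ ≫ α = α := by
    ext b
    exact (Ideal.Quotient.mk_eq_mk_iff_sub_mem _ _).2
      ((Ideal.neg_mem_iff m).1 (by rw [neg_sub]; exact hle (Ideal.subset_span ⟨b, rfl⟩)))
  have := hfree.eq_of_fix (Spec.map α ≫ hV.fromSpec) g⁻¹ (by
    rw [Category.assoc, ← hV.SpecMap_appLE_fromSpec (ρ g⁻¹).hom hV
      (SGA1.preimage_le_of_inv ρ p hp.inv g⁻¹ U), ← Spec.map_comp_assoc]
    show Spec.map (actHom hp.inv U g⁻¹ ≫ α) ≫ _ = _
    rw [hfix])
  exact hg (inv_eq_one.1 this)

variable [Finite G]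

theorem etale (hp : SGA1.IsQuot ρ p) (hfree : Free ρ) : Etale p := by
  haveI := hp.affine
  have key : ∀ W : Y.Opens, IsAffineOpen W → (p.app W).hom.Etale := by
    intro W hW
    letI := action hp.inv W
    letI := (p.app W).hom.toAlgebra
    haveI := isInvariant hp W
    haveI := smulCommClass hp.inv W
    exact GalExt.etale (G := G) (A := Γ(Y, W)) (B := Γ(X, p ⁻¹ᵁ W))
      (fun g hg => span_eq_top hp hfree hW g hg) (hp.injective W)
  rw [IsZariskiLocalAtTarget.iff_of_iSup_eq_top (P := @Etale) _ (iSup_affineOpens_eq_top Y)]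
  intro U
  haveI : IsAffine (p ⁻¹ᵁ U).toScheme := U.2.preimage p
  haveI : IsAffine U.1.toScheme := U.2
  rw [HasRingHomProperty.iff_of_isAffine (P := @Etale), morphismRestrict_appTop]
  refine (RingHom.Etale.respectsIso.cancel_right_isIso (p.app (U.1.ι ''ᵁ ⊤))
    (X.presheaf.map (eqToHom (image_morphismRestrict_preimage p U.1 ⊤)).op)).2 ?_
  apply key
  rw [Scheme.Opens.ι_image_top]
  exact U.2

theorem isFinite_free (hp : SGA1.IsQuot ρ p) (hfree : Free ρ) : IsFinite p :=
  haveI := etale hp hfree
  isFinite hp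

/-- The graph of `g`. -/
noncomputable def graph (hp : SGA1.IsQuot ρ p) (g : G) : X ⟶ pullback p p :=
  pullback.lift (𝟙 X) (ρ g).hom ((Category.id_comp p).trans (hp.inv g).symm)

omit [Finite G] in
theorem graph_fst (hp : SGA1.IsQuot ρ p) (g : G) : graph hp g ≫ pullback.fst p p = 𝟙 X :=
  pullback.lift_fst _ _ _

omit [Finite G] in
theorem graph_snd (hp : SGA1.IsQuot ρ p) (g : G) : graph hp g ≫ pullback.snd p p = (ρ g).hom :=
  pullback.lift_snd _ _ _

theorem isOpenImmersion_graph (hp : SGA1.IsQuot ρ p) (hfree : Free ρ) (g : G) :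
    IsOpenImmersion (graph hp g) := by
  haveI := etale hp hfree
  haveI : Etale (pullback.fst p p) := MorphismProperty.pullback_fst _ _ ‹Etale p›
  haveI : Etale (graph hp g ≫ pullback.fst p p) := by rw [graph_fst]; infer_instance
  haveI : Etale (graph hp g) := Etale.of_comp (graph hp g) (pullback.fst p p)
  haveI : Mono (graph hp g) :=
    haveI : Mono (graph hp g ≫ pullback.fst p p) := by rw [graph_fst]; infer_instance
    mono_of_mono _ (pullback.fst p p)
  exact IsOpenImmersion.of_flat_of_mono _

theorem isIso_pseudoTorsor (hp : SGA1.IsQuot ρ p) (hfree : Free ρ) :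
    IsIso (Sigma.desc (graph hp) : (∐ fun _ : G => X) ⟶ pullback p p) := by
  haveI := isOpenImmersion_graph hp hfree
  haveI : IsOpenImmersion (Sigma.desc (graph hp) : (∐ fun _ : G => X) ⟶ pullback p p) := by
    refine isOpenImmersion_sigmaDesc _ _ fun g h hgh => ?_
    rw [Function.onFun, Set.disjoint_left]
    rintro z ⟨x, rfl⟩ ⟨x', hx'⟩
    refine hgh ?_
    have e0 : x' = x := by
      have := congrArg (pullback.fst p p) hx'
      rwa [← Scheme.Hom.comp_apply, ← Scheme.Hom.comp_apply, graph_fst, graph_fst] at this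
    subst e0
    let a := X.fromSpecResidueField x'
    -- both graphs send the point to `z`; compare as field valued points
    let z := (graph hp g) x'
    let c := (pullback p p : Scheme).fromSpecResidueField z
    have hlift : ∀ k : G, graph hp k x' = z → ∃ b : Spec ((pullback p p : Scheme).residueField z) ⟶ X,
        b ≫ graph hp k = c := fun k hk => by
      haveI := isOpenImmersion_graph hp hfree k
      refine ⟨IsOpenImmersion.lift (graph hp k) c ?_, IsOpenImmersion.lift_fac _ _ _⟩
      rintro _ ⟨s, rfl⟩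
      rw [Scheme.fromSpecResidueField_apply]
      exact ⟨x', hk⟩
    obtain ⟨b, hb⟩ := hlift g rfl
    obtain ⟨b', hb'⟩ := hlift h hx'
    have hbb : b = b' := by
      have h1 := congrArg (· ≫ pullback.fst p p) hb
      have h2 := congrArg (· ≫ pullback.fst p p) hb'
      simp only [Category.assoc, graph_fst, Category.comp_id] at h1 h2
      rw [h1, h2]
    subst hbb
    have h1 := congrArg (· ≫ pullback.snd p p) hb
    have h2 := congrArg (· ≫ pullback.snd p p) hb'
    simp only [Category.assoc, graph_snd] at h1 h2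
    have := hfree.eq_of_fix b (g⁻¹ * h) (by
      rw [map_mul_hom, ← Category.assoc]
      refine (congrArg (· ≫ (ρ g⁻¹).hom) (h2.trans h1.symm)).trans ?_
      show (b ≫ (ρ g).hom) ≫ (ρ g⁻¹).hom = b
      rw [Category.assoc, ← map_mul_hom, inv_mul_cancel, map_one_hom]
      exact Category.comp_id b)
    exact inv_mul_eq_one.1 this
  haveI : Surjective (Sigma.desc (graph hp) : (∐ fun _ : G => X) ⟶ pullback p p) := ⟨fun z => by
    let c := (pullback p p : Scheme).fromSpecResidueField z
    obtain ⟨g, hg⟩ := exists_act_of_comp_eq hp (K := (pullback p p : Scheme).residueField z)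
      (c ≫ pullback.fst p p) (c ≫ pullback.snd p p) (by simp only [Category.assoc, pullback.condition])
    have e : (c ≫ pullback.fst p p) ≫ graph hp g = c := by
      apply pullback.hom_ext
      · rw [Category.assoc, graph_fst, Category.comp_id]
      · rw [Category.assoc, graph_snd]; exact hg
    let pt : Spec ((pullback p p : Scheme).residueField z) := IsLocalRing.closedPoint _
    refine ⟨(Sigma.ι (fun _ : G => X) g) ((c ≫ pullback.fst p p) pt), ?_⟩
    rw [← Scheme.Hom.comp_apply, Sigma.ι_desc, ← Scheme.Hom.comp_apply, e]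
    exact Scheme.fromSpecResidueField_apply z pt⟩
  exact (isIso_iff_isOpenImmersion_and_surjective _).mpr ⟨inferInstance, inferInstance⟩

end Groth.Agent.IsQuot25
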