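import Groth.Agent.Lib.IsQuot25.Local
import Mathlib.AlgebraicGeometry.Morphisms.Flat
import Mathlib.LinearAlgebra.TensorProduct.Pi
import Mathlib.RingTheory.Flat.Basic
import Mathlib.Algebra.Category.Ring.Constructions

/-!
# Quotients by finite groups commute with flat base change
-/

set_option autoImplicit false
set_option backward.isDefEq.respectTransparency.types false
universe u

open CategoryTheory CategoryTheory.Limits AlgebraicGeometry TopologicalSpace TensorProduct

namespace Groth.Agent.IsQuot25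

/-- A finite system of linear equations commutes with flat base change. -/
theorem mem_range_lTensor {A B C A' : Type u} [CommRing A] [AddCommGroup B] [Module A B]
    [AddCommGroup C] [Module A C] [AddCommGroup A'] [Module A A'] [Module.Flat A A'] {ι : Type u}
    [Finite ι] (i : C →ₗ[A] B) (d : ι → B →ₗ[A] B)
    (hd : ∀ b, (∀ k, d k b = 0) ↔ b ∈ LinearMap.range i) (x : A' ⊗[A] B)
    (hx : ∀ k, (d k).lTensor A' x = 0) : x ∈ LinearMap.range (i.lTensor A') := by
  classical
  cases nonempty_fintype ι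
  have hex : Function.Exact i (LinearMap.pi d) := fun b => by
    rw [funext_iff]
    exact (hd b)
  refine (Module.Flat.lTensor_exact A' hex x).1 ?_
  apply (TensorProduct.piRight A A A' (fun _ : ι => B)).injective
  rw [map_zero]
  ext k
  rw [Pi.zero_apply, ← hx k]
  clear hx
  induction x with
  | zero => simp
  | tmul a b => simp [TensorProduct.piRight_apply, TensorProduct.piRightHom_tmul]
  | add x y hx hy => simp only [map_add, Pi.add_apply, hx, hy]

variable {X Y : Scheme.{u}} {G : Type u} [Group G] [Finite G] {ρ : G →* Aut X} {p : X ⟶ Y}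

/-- Flat base change of quotients. -/
theorem baseChange_flat (hp : SGA1.IsQuot ρ p) {X' Y' : Scheme.{u}} (qY : Y' ⟶ Y) [Flat qY]
    (pX : X' ⟶ X) (p' : X' ⟶ Y') (hX : IsPullback pX p' p qY)
    (ρ' : G →* Aut X') (hρ₁ : ∀ g : G, (ρ' g).hom ≫ pX = pX ≫ (ρ g).hom)
    (hρ₂ : ∀ g : G, (ρ' g).hom ≫ p' = p') : SGA1.IsQuot ρ' p' := by
  refine of_affineCover (MorphismProperty.of_isPullback hX hp.affine) hρ₂ fun y' => ?_
  obtain ⟨U, hU, hyU, -⟩ :=
    exists_isAffineOpen_mem_and_subset (show qY y' ∈ (⊤ : Y.Opens) from trivial)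
  obtain ⟨U', hU', hyU', hle⟩ :=
    exists_isAffineOpen_mem_and_subset (show y' ∈ qY ⁻¹ᵁ U from hyU)
  refine ⟨U', hU', hyU', ?_⟩
  have hle' : U' ≤ qY ⁻¹ᵁ U := hle
  have hV := isAffineOpen_preimage hp hU
  have hUY : p' ⁻¹ᵁ U' = pX ⁻¹ᵁ (p ⁻¹ᵁ U) ⊓ p' ⁻¹ᵁ U' := by
    refine le_antisymm (le_inf (fun x hx => ?_) le_rfl) inf_le_right
    have h1 : qY (p' x) ∈ U := hle' hx
    rw [← Scheme.Hom.comp_apply, ← hX.w, Scheme.Hom.comp_apply] at h1
    exact h1
  have hle'' : p' ⁻¹ᵁ U' ≤ pX ⁻¹ᵁ (p ⁻¹ᵁ U) := hUY.le.trans inf_le_left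
  have hpo := (isIso_pushoutSection_iff hX hle' le_rfl hUY).1
    (isIso_pushoutSection_of_isAffineOpen hX hle' le_rfl hUY hU hU' hV)
  let A := Γ(Y, U)
  let B := Γ(X, p ⁻¹ᵁ U)
  let A' := Γ(Y', U')
  let B' := Γ(X', p' ⁻¹ᵁ U')
  let j : A ⟶ A' := qY.appLE U U' hle'
  let i : A ⟶ B := p.app U
  let k : B ⟶ B' := pX.appLE (p ⁻¹ᵁ U) (p' ⁻¹ᵁ U') hle''
  let i' : A' ⟶ B' := p'.app U'
  have hw : i ≫ k = j ≫ i' := by
    have := hpo.w
    simpa only [i, j, k, i', Scheme.Hom.app_eq_appLE] using this
  letI : Algebra A A' := j.hom.toAlgebra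
  letI : Algebra A B := i.hom.toAlgebra
  letI : Algebra B B' := k.hom.toAlgebra
  letI : Algebra A' B' := i'.hom.toAlgebra
  letI : Algebra A B' := (i ≫ k).hom.toAlgebra
  haveI : IsScalarTower A B B' := .of_algebraMap_eq' rfl
  haveI : IsScalarTower A A' B' := .of_algebraMap_eq' (congrArg CommRingCat.Hom.hom hw)
  haveI : Algebra.IsPushout A A' B B' := by
    rw [← CommRingCat.isPushout_iff_isPushout]
    have := hpo.flip
    simpa only [A, B, A', B', i, j, k, i', RingHom.algebraMap_toAlgebra, CommRingCat.ofHom_hom,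
      Scheme.Hom.app_eq_appLE] using this
  haveI : Module.Flat A A' :=
    (HasRingHomProperty.appLE @Flat qY ‹Flat qY› ⟨U, hU⟩ ⟨U', hU'⟩ hle')
  let e := Algebra.IsPushout.equiv A A' B B'
  let act : G → B →ₗ[A] B := fun g =>
    { toFun := fun b => actHom hp.inv U g b
      map_add' := fun a b => map_add (actHom hp.inv U g).hom a b
      map_smul' := fun a b => by
        show actHom hp.inv U g (i a * b) = i a * actHom hp.inv U g b
        rw [map_mul]
        exact congrArg (· * _) congr($(actHom_app hp.inv U g) a) }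
  have hk : ∀ g b, actHom hρ₂ U' g (k b) = k (actHom hp.inv U g b) := fun g b => by
    have : k ≫ actHom hρ₂ U' g = actHom hp.inv U g ≫ k := by
      rw [actHom, actHom, Scheme.Hom.appLE_comp_appLE, Scheme.Hom.appLE_comp_appLE,
        appLE_eq (hρ₁ g)]
    exact congr($this b)
  have heq : ∀ (g : G) (x : A' ⊗[A] B), actHom hρ₂ U' g (e x) = e ((act g).lTensor A' x) := by
    intro g x
    induction x with
    | zero => simp
    | tmul a b =>
      rw [LinearMap.lTensor_tmul, Algebra.IsPushout.equiv_tmul, Algebra.IsPushout.equiv_tmul]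
      show actHom hρ₂ U' g (i' a * k b) = i' a * k (actHom hp.inv U g b)
      rw [map_mul, hk]
      exact congrArg (· * _) congr($(actHom_app hρ₂ U' g) a)
    | add x y hx hy => simp only [map_add, hx, hy]
  let iL : A →ₗ[A] B := Algebra.linearMap A B
  have he : ∀ z : A' ⊗[A] A, e (iL.lTensor A' z) = i' (TensorProduct.rid A A' z) := by
    intro z
    induction z with
    | zero => simp
    | tmul a b =>
      rw [LinearMap.lTensor_tmul, Algebra.IsPushout.equiv_tmul, TensorProduct.rid_tmul]
      show i' a * k (i b) = i' (j b * a)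
      rw [show k (i b) = i' (j b) from congr($hw b), map_mul, mul_comm]
    | add x y hx hy => simp only [map_add, hx, hy]
  constructor
  · intro a a' h
    obtain ⟨z, rfl⟩ := (TensorProduct.rid A A').surjective a
    obtain ⟨z', rfl⟩ := (TensorProduct.rid A A').surjective a'
    have h' : e (iL.lTensor A' z) = e (iL.lTensor A' z') := by rw [he, he]; exact h
    exact congrArg _ (Module.Flat.lTensor_preserves_injective_linearMap iL (hp.injective U)
      (e.injective h'))
  · intro s hs
    obtain ⟨x, rfl⟩ := e.surjective s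
    have hx : ∀ g, (act g - LinearMap.id).lTensor A' x = 0 := fun g => by
      rw [LinearMap.lTensor_sub, LinearMap.lTensor_id, LinearMap.sub_apply, LinearMap.id_apply,
        sub_eq_zero]
      exact e.injective ((heq g x).symm.trans (hs g))
    obtain ⟨z, hz⟩ := mem_range_lTensor iL (fun g => act g - LinearMap.id) (fun b => by
      constructor
      · intro h
        exact (hp.range_iff U b).2 fun g => sub_eq_zero.1 (h g)
      · rintro ⟨a, rfl⟩ g
        exact sub_eq_zero.2 congr($(actHom_app hp.inv U g) a)) x hx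
    exact ⟨TensorProduct.rid A A' z, (he z).symm.trans (congrArg e hz)⟩

end Groth.Agent.IsQuot25
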