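import Groth.Prelude.Def_SGA1
import Mathlib.AlgebraicGeometry.Morphisms.Integral
import Mathlib.AlgebraicGeometry.Restrict
import Mathlib.RingTheory.Invariant.Basic
import Mathlib.RingTheory.Ideal.Pointwise

/-!
# Quotients of schemes by finite groups: the action on sections, orbits, integrality
-/

set_option autoImplicit false
set_option backward.isDefEq.respectTransparency.types false
universe u

open CategoryTheory AlgebraicGeometry TopologicalSpace Opposite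
open scoped Pointwise

namespace Groth.Agent.IsQuot25

variable {X Y : Scheme.{u}} {G : Type u} [Group G] {ρ : G →* Aut X} {p : X ⟶ Y}

theorem appLE_eq {X Y : Scheme.{u}} {f g : X ⟶ Y} (h : f = g) (U : Y.Opens) (V : X.Opens)
    (e : V ≤ f ⁻¹ᵁ U) : f.appLE U V e = g.appLE U V (h ▸ e) := by
  subst h; rfl

theorem map_mul_hom (ρ : G →* Aut X) (g h : G) : (ρ (g * h)).hom = (ρ h).hom ≫ (ρ g).hom := by
  rw [map_mul]; rfl

theorem map_one_hom (ρ : G →* Aut X) : (ρ 1).hom = 𝟙 X := by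
  rw [map_one]; rfl

theorem act_apply_apply (ρ : G →* Aut X) (g h : G) (x : X) :
    (ρ g).hom ((ρ h).hom x) = (ρ (g * h)).hom x := by
  rw [map_mul_hom, Scheme.Hom.comp_apply]

theorem inv_apply_apply (ρ : G →* Aut X) (g : G) (x : X) : (ρ g⁻¹).hom ((ρ g).hom x) = x := by
  rw [act_apply_apply, inv_mul_cancel, map_one_hom]; rfl

theorem apply_inv_apply (ρ : G →* Aut X) (g : G) (x : X) : (ρ g).hom ((ρ g⁻¹).hom x) = x := by
  rw [act_apply_apply, mul_inv_cancel, map_one_hom]; rfl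

/-- The action on the sections over the preimage of an open. -/
noncomputable def actHom (hinv : ∀ g : G, (ρ g).hom ≫ p = p) (U : Y.Opens) (g : G) :
    Γ(X, p ⁻¹ᵁ U) ⟶ Γ(X, p ⁻¹ᵁ U) :=
  (ρ g).hom.appLE (p ⁻¹ᵁ U) (p ⁻¹ᵁ U) (SGA1.preimage_le_of_inv ρ p hinv g U)

theorem actHom_one (hinv : ∀ g : G, (ρ g).hom ≫ p = p) (U : Y.Opens) : actHom hinv U 1 = 𝟙 _ := by
  rw [actHom, appLE_eq (map_one_hom ρ), Scheme.Hom.appLE, Scheme.Hom.id_app]
  exact (Category.id_comp _).trans (X.presheaf.map_id _)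

theorem actHom_mul (hinv : ∀ g : G, (ρ g).hom ≫ p = p) (U : Y.Opens) (g h : G) :
    actHom hinv U (g * h) = actHom hinv U g ≫ actHom hinv U h := by
  rw [actHom, actHom, actHom, Scheme.Hom.appLE_comp_appLE, appLE_eq (map_mul_hom ρ g h)]

theorem actHom_app (hinv : ∀ g : G, (ρ g).hom ≫ p = p) (U : Y.Opens) (g : G) :
    p.app U ≫ actHom hinv U g = p.app U := by
  rw [actHom, p.app_eq_appLE, Scheme.Hom.appLE_comp_appLE, appLE_eq (hinv g)]

theorem actHom_map (hinv : ∀ g : G, (ρ g).hom ≫ p = p) {U V : Y.Opens} (e : V ≤ U) (g : G) :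
    actHom hinv U g ≫ X.presheaf.map (homOfLE ((Opens.map p.base).monotone e)).op =
      X.presheaf.map (homOfLE ((Opens.map p.base).monotone e)).op ≫ actHom hinv V g := by
  rw [actHom, actHom, Scheme.Hom.appLE_map, Scheme.Hom.map_appLE]

/-- The action on sections, as a `MulSemiringAction`. -/
@[implicit_reducible]
noncomputable def action (hinv : ∀ g : G, (ρ g).hom ≫ p = p) (U : Y.Opens) :
    MulSemiringAction G Γ(X, p ⁻¹ᵁ U) where
  smul g b := actHom hinv U g⁻¹ b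
  one_smul b := by
    show actHom hinv U 1⁻¹ b = b
    rw [inv_one, actHom_one]; rfl
  mul_smul g h b := by
    show actHom hinv U (g * h)⁻¹ b = actHom hinv U g⁻¹ (actHom hinv U h⁻¹ b)
    rw [mul_inv_rev, actHom_mul]; rfl
  smul_zero g := map_zero (actHom hinv U g⁻¹).hom
  smul_add g a b := map_add (actHom hinv U g⁻¹).hom a b
  smul_one g := map_one (actHom hinv U g⁻¹).hom
  smul_mul g a b := map_mul (actHom hinv U g⁻¹).hom a b

theorem smulCommClass (hinv : ∀ g : G, (ρ g).hom ≫ p = p) (U : Y.Opens) :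
    letI := action hinv U
    letI := (p.app U).hom.toAlgebra
    SMulCommClass G Γ(Y, U) Γ(X, p ⁻¹ᵁ U) := by
  letI := action hinv U
  letI := (p.app U).hom.toAlgebra
  refine ⟨fun g a b => ?_⟩
  show actHom hinv U g⁻¹ (p.app U a * b) = p.app U a * actHom hinv U g⁻¹ b
  rw [map_mul, ← CommRingCat.comp_apply, actHom_app]

theorem isInvariant (hp : SGA1.IsQuot ρ p) (U : Y.Opens) :
    letI := action hp.inv U
    letI := (p.app U).hom.toAlgebra
    Algebra.IsInvariant Γ(Y, U) Γ(X, p ⁻¹ᵁ U) G := by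
  letI := action hp.inv U
  letI := (p.app U).hom.toAlgebra
  refine ⟨fun b hb => (hp.range_iff U b).2 fun g => ?_⟩
  have := hb g⁻¹
  change actHom hp.inv U g⁻¹⁻¹ b = b at this
  rwa [inv_inv] at this

theorem mem_range_iff (hp : SGA1.IsQuot ρ p) (U : Y.Opens) (s : Γ(X, p ⁻¹ᵁ U)) :
    s ∈ Set.range (p.app U) ↔ ∀ g : G, actHom hp.inv U g s = s :=
  hp.range_iff U s

theorem isAffineOpen_preimage (hp : SGA1.IsQuot ρ p) {U : Y.Opens} (hU : IsAffineOpen U) :
    IsAffineOpen (p ⁻¹ᵁ U) := by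
  haveI := hp.affine
  exact hU.preimage p

theorem isIntegralHom [Finite G] (hp : SGA1.IsQuot ρ p) : IsIntegralHom p := by
  haveI := hp.affine
  refine ⟨fun U _ => ?_⟩
  letI := action hp.inv U
  letI := (p.app U).hom.toAlgebra
  haveI := isInvariant hp U
  have h := Algebra.IsInvariant.isIntegral Γ(Y, U) Γ(X, p ⁻¹ᵁ U) G
  exact fun x => h.isIntegral x

theorem comap_primeIdealOf (hinv : ∀ g : G, (ρ g).hom ≫ p = p) {U : Y.Opens}
    (hV : IsAffineOpen (p ⁻¹ᵁ U)) {x : X} (hx : x ∈ p ⁻¹ᵁ U) (g : G) :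
    (hV.primeIdealOf ⟨x, hx⟩).asIdeal.comap (actHom hinv U g).hom =
      (hV.primeIdealOf ⟨(ρ g).hom x, SGA1.preimage_le_of_inv ρ p hinv g U hx⟩).asIdeal :=
  congrArg PrimeSpectrum.asIdeal
    (IsAffineOpen.comap_primeIdealOf_appLE (p ⁻¹ᵁ U) hV (p ⁻¹ᵁ U) hV _ hx)

theorem smul_primeIdealOf (hinv : ∀ g : G, (ρ g).hom ≫ p = p) {U : Y.Opens}
    (hV : IsAffineOpen (p ⁻¹ᵁ U)) {x : X} (hx : x ∈ p ⁻¹ᵁ U) (g : G) :
    letI := action hinv U
    g • (hV.primeIdealOf ⟨x, hx⟩).asIdeal =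
      (hV.primeIdealOf ⟨(ρ g).hom x, SGA1.preimage_le_of_inv ρ p hinv g U hx⟩).asIdeal := by
  letI := action hinv U
  rw [← comap_primeIdealOf hinv hV hx g]
  ext b
  rw [Ideal.mem_pointwise_smul_iff_inv_smul_mem, Ideal.mem_comap]
  show actHom hinv U g⁻¹⁻¹ b ∈ _ ↔ _
  rw [inv_inv]

theorem primeIdealOf_injective {V : X.Opens} (hV : IsAffineOpen V) {x x' : V}
    (h : (hV.primeIdealOf x).asIdeal = (hV.primeIdealOf x').asIdeal) : x.1 = x'.1 := by
  rw [← hV.fromSpec_primeIdealOf x, ← hV.fromSpec_primeIdealOf x', PrimeSpectrum.ext h]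

theorem comap_app_primeIdealOf {U : Y.Opens} (hU : IsAffineOpen U) (hV : IsAffineOpen (p ⁻¹ᵁ U))
    {x : X} (hx : x ∈ p ⁻¹ᵁ U) :
    (hV.primeIdealOf ⟨x, hx⟩).asIdeal.comap (p.app U).hom = (hU.primeIdealOf ⟨p x, hx⟩).asIdeal := by
  rw [p.app_eq_appLE]
  exact congrArg PrimeSpectrum.asIdeal (IsAffineOpen.comap_primeIdealOf_appLE U hU _ hV _ hx)

theorem primeIdealOf_surjective {V : X.Opens} (hV : IsAffineOpen V) (P : PrimeSpectrum Γ(X, V)) :
    ∃ x : V, hV.primeIdealOf x = P := by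
  have hmem : hV.fromSpec P ∈ V := by
    have : hV.fromSpec P ∈ Set.range hV.fromSpec := ⟨P, rfl⟩
    rwa [hV.range_fromSpec] at this
  refine ⟨⟨_, hmem⟩, hV.fromSpec.isOpenEmbedding.injective ?_⟩
  rw [hV.fromSpec_primeIdealOf]

variable [Finite G]

theorem surjective (hp : SGA1.IsQuot ρ p) : Function.Surjective p := by
  intro y
  obtain ⟨U, hU, hyU, -⟩ := exists_isAffineOpen_mem_and_subset (show y ∈ (⊤ : Y.Opens) from trivial)
  haveI := isIntegralHom hp
  have hV := isAffineOpen_preimage hp hU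
  obtain ⟨P, hP⟩ := (p.isIntegral_app U hU).comap_surjective (hp.injective U) (hU.primeIdealOf ⟨y, hyU⟩)
  obtain ⟨⟨x, hx⟩, rfl⟩ := primeIdealOf_surjective hV P
  refine ⟨x, primeIdealOf_injective hU (x := ⟨p x, hx⟩) (x' := ⟨y, hyU⟩) ?_⟩
  rw [← comap_app_primeIdealOf hU hV hx, ← hP]
  rfl

theorem orbit (hp : SGA1.IsQuot ρ p) (x x' : X) (h : p x = p x') : ∃ g : G, (ρ g).hom x = x' := by
  obtain ⟨U, hU, hxU, -⟩ := exists_isAffineOpen_mem_and_subset (show p x ∈ (⊤ : Y.Opens) from trivial)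
  have hV := isAffineOpen_preimage hp hU
  have hx : x ∈ p ⁻¹ᵁ U := hxU
  have hx' : x' ∈ p ⁻¹ᵁ U := show p x' ∈ U from h ▸ hxU
  letI := action hp.inv U
  letI := (p.app U).hom.toAlgebra
  haveI := isInvariant hp U
  haveI := smulCommClass hp.inv U
  obtain ⟨g, hg⟩ := Algebra.IsInvariant.exists_smul_of_under_eq Γ(Y, U) Γ(X, p ⁻¹ᵁ U) G
    (hV.primeIdealOf ⟨x, hx⟩).asIdeal (hV.primeIdealOf ⟨x', hx'⟩).asIdeal (by
      show Ideal.comap (p.app U).hom _ = Ideal.comap (p.app U).hom _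
      rw [comap_app_primeIdealOf hU hV hx, comap_app_primeIdealOf hU hV hx']
      simp only [h])
  rw [smul_primeIdealOf hp.inv hV hx] at hg
  exact ⟨g, (primeIdealOf_injective hV hg).symm⟩

theorem apply_act (hp : SGA1.IsQuot ρ p) (g : G) (x : X) : p ((ρ g).hom x) = p x := by
  rw [← Scheme.Hom.comp_apply, hp.inv]

theorem orbit_iff (hp : SGA1.IsQuot ρ p) (x x' : X) : p x = p x' ↔ ∃ g : G, (ρ g).hom x = x' :=
  ⟨orbit hp x x', fun ⟨g, hg⟩ => by rw [← hg, apply_act hp]⟩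

theorem isClosedMap (hp : SGA1.IsQuot ρ p) : IsClosedMap p :=
  haveI := isIntegralHom hp
  p.isClosedMap

theorem isQuotientMap (hp : SGA1.IsQuot ρ p) : Topology.IsQuotientMap p :=
  (isClosedMap hp).isQuotientMap p.continuous (surjective hp)

theorem isOpenMap (hp : SGA1.IsQuot ρ p) : IsOpenMap p := by
  intro A hA
  rw [← (isQuotientMap hp).isOpen_preimage]
  have : p ⁻¹' (p '' A) = ⋃ g : G, (ρ g).hom ⁻¹' A := by
    ext x
    simp only [Set.mem_preimage, Set.mem_image, Set.mem_iUnion]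
    constructor
    · rintro ⟨a, ha, e⟩
      obtain ⟨g, hg⟩ := orbit hp x a e.symm
      exact ⟨g, hg ▸ ha⟩
    · rintro ⟨g, hg⟩
      exact ⟨_, hg, apply_act hp g x⟩
  rw [this]
  exact isOpen_iUnion fun g => hA.preimage (ρ g).hom.continuous

end Groth.Agent.IsQuot25
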