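import Groth.Agent.Lib.IsQuot25.Coset
import Groth.Agent.Lib.IsQuot25.Props
import Groth.Agent.Lib.IsQuot25.FlatBC

/-!
# Quotients in stages
-/

set_option autoImplicit false
set_option backward.isDefEq.respectTransparency.types false
universe u

open CategoryTheory CategoryTheory.Limits AlgebraicGeometry TopologicalSpace

namespace Groth.Agent.IsQuot25

variable {X X₁ X₂ : Scheme.{u}} {A B C : Type u} [Group A] [Group B] [Group C]

/-- The quotient by a normal subgroup, divided by the quotient group. -/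
theorem isQuot_of_comp [Finite A] [Finite C] {σ : A →* Aut X} {τ : C →* Aut X₁} {θ : B →* Aut X}
    {p₁ : X ⟶ X₁} {r : X₁ ⟶ X₂} (h₁ : SGA1.IsQuot σ p₁) (h : SGA1.IsQuot θ (p₁ ≫ r))
    (hB : ∀ b : B, ∃ c : C, (θ b).hom ≫ p₁ = p₁ ≫ (τ c).hom)
    (hC : ∀ c : C, ∃ b : B, (θ b).hom ≫ p₁ = p₁ ≫ (τ c).hom) : SGA1.IsQuot τ r := by
  haveI : IsAffineHom r := (isAffineHom_iff h₁ r).1 h.affine
  have hinv : ∀ c : C, (τ c).hom ≫ r = r := fun c => by
    obtain ⟨b, hb⟩ := hC c
    refine hom_ext h₁ ?_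
    rw [← Category.assoc, ← hb, Category.assoc, h.inv]
  have happ : ∀ (U : X₂.Opens) a, (p₁ ≫ r).app U a = p₁.app (r ⁻¹ᵁ U) (r.app U a) := fun U a =>
    congr($(Scheme.Hom.comp_app p₁ r U) a)
  refine ⟨inferInstance, hinv, fun U a a' e => ?_, fun U s => ?_⟩
  · exact h.injective U ((happ U a).trans ((congrArg _ e).trans (happ U a').symm))
  · constructor
    · rintro ⟨a, rfl⟩ c
      rw [Scheme.Hom.app_eq_appLE]
      exact appLE_comp_apply _ _ _ _ (hinv c) a
    · intro hs
      obtain ⟨a, ha⟩ := (h.range_iff U (p₁.app (r ⁻¹ᵁ U) s)).2 fun b => by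
        obtain ⟨c, hc⟩ := hB b
        have e2 : p₁ ⁻¹ᵁ (r ⁻¹ᵁ U) ≤ p₁ ⁻¹ᵁ (r ⁻¹ᵁ U) := le_rfl
        rw [Scheme.Hom.app_eq_appLE]
        refine (appLE_comp_apply (θ b).hom p₁ le_rfl _ hc s).trans ?_
        refine (appLE_comp_apply p₁ (τ c).hom (SGA1.preimage_le_of_inv τ r hinv c U) e2 rfl s).symm.trans ?_
        exact congrArg _ (hs c)
      exact ⟨a, h₁.injective _ ((happ U a).symm.trans ha)⟩

/-- A quotient followed by a quotient. -/
theorem isQuot_comp {σ : A →* Aut X} {τ : B →* Aut X₁} {θ : C →* Aut X} {p₁ : X ⟶ X₁} {r : X₁ ⟶ X₂}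
    (h₁ : SGA1.IsQuot σ p₁) (h₂ : SGA1.IsQuot τ r)
    (hinv : ∀ c : C, (θ c).hom ≫ p₁ ≫ r = p₁ ≫ r)
    (hA : ∀ a : A, ∃ c : C, θ c = σ a)
    (hB : ∀ b : B, ∃ c : C, (θ c).hom ≫ p₁ = p₁ ≫ (τ b).hom) : SGA1.IsQuot θ (p₁ ≫ r) := by
  haveI := h₁.affine
  haveI := h₂.affine
  have happ : ∀ (U : X₂.Opens) a, (p₁ ≫ r).app U a = p₁.app (r ⁻¹ᵁ U) (r.app U a) := fun U a =>
    congr($(Scheme.Hom.comp_app p₁ r U) a)
  refine ⟨inferInstance, hinv, fun U a a' e => ?_, fun U s => ⟨?_, fun hs => ?_⟩⟩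
  · exact h₂.injective U (h₁.injective _ (((happ U a).symm.trans e).trans (happ U a')))
  · rintro ⟨a, rfl⟩ c
    rw [Scheme.Hom.app_eq_appLE]
    exact appLE_comp_apply _ _ _ _ (hinv c) a
  · obtain ⟨t, rfl⟩ := (h₁.range_iff (r ⁻¹ᵁ U) s).2 fun a => by
      obtain ⟨c, hc⟩ := hA a
      refine Eq.trans ?_ (hs c)
      rw [appLE_eq (congrArg Iso.hom hc.symm)]
      rfl
    obtain ⟨a, rfl⟩ := (h₂.range_iff U t).2 fun b => by
      obtain ⟨c, hc⟩ := hB b
      apply h₁.injective (r ⁻¹ᵁ U)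
      refine Eq.trans ?_ (hs c)
      rw [Scheme.Hom.app_eq_appLE]
      refine Eq.trans ?_ (appLE_comp_apply (θ c).hom p₁ le_rfl _ hc t).symm
      exact appLE_comp_apply p₁ (τ b).hom _ le_rfl rfl t
    exact ⟨a, happ U a⟩

/-- Products of quotients over a field. -/
theorem isQuot_prod {k : Type u} [Field k] {G H : Type u} [Group G] [Finite G] [Group H] [Finite H]
    {X Y XG YH : Scheme.{u}} (fX : X ⟶ Spec (CommRingCat.of k)) (fY : Y ⟶ Spec (CommRingCat.of k))
    (gX : XG ⟶ Spec (CommRingCat.of k)) (gY : YH ⟶ Spec (CommRingCat.of k))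
    (ρ : G →* Aut X) (σ : H →* Aut Y)
    (p : X ⟶ XG) (hp : p ≫ gX = fX) (q : Y ⟶ YH) (hq : q ≫ gY = fY)
    (hP : SGA1.IsQuot ρ p) (hQ : SGA1.IsQuot σ q)
    (θ : G × H →* Aut (pullback fX fY))
    (hθ1 : ∀ gh : G × H, (θ gh).hom ≫ pullback.fst fX fY = pullback.fst fX fY ≫ (ρ gh.1).hom)
    (hθ2 : ∀ gh : G × H, (θ gh).hom ≫ pullback.snd fX fY = pullback.snd fX fY ≫ (σ gh.2).hom)
    (π : pullback fX fY ⟶ pullback gX gY) (hπ1 : π ≫ pullback.fst gX gY = pullback.fst fX fY ≫ p)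
    (hπ2 : π ≫ pullback.snd gX gY = pullback.snd fX fY ≫ q) : SGA1.IsQuot θ π := by
  subst hp hq
  haveI : Flat (q ≫ gY) := inferInstance
  haveI : Flat gX := inferInstance
  -- the intermediate product
  let m : pullback (p ≫ gX) (q ≫ gY) ⟶ pullback gX (q ≫ gY) :=
    pullback.lift (pullback.fst _ _ ≫ p) (pullback.snd _ _) (by rw [Category.assoc, pullback.condition])
  let n : pullback gX (q ≫ gY) ⟶ pullback gX gY :=
    pullback.lift (pullback.fst _ _) (pullback.snd _ _ ≫ q) (by rw [Category.assoc, pullback.condition])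
  have hm : IsPullback (pullback.fst (p ≫ gX) (q ≫ gY)) m p (pullback.fst gX (q ≫ gY)) :=
    IsPullback.of_bot (h₁₁ := pullback.fst (p ≫ gX) (q ≫ gY)) (v₁₁ := m) (v₁₂ := p)
      (h₂₁ := pullback.fst gX (q ≫ gY)) (v₂₁ := pullback.snd gX (q ≫ gY)) (v₂₂ := gX) (h₃₁ := q ≫ gY)
      (by rw [show m ≫ pullback.snd gX (q ≫ gY) = pullback.snd _ _ from pullback.lift_snd _ _ _]
          exact IsPullback.of_hasPullback _ _)
      (pullback.lift_fst _ _ _).symm (IsPullback.of_hasPullback _ _)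
  have hn : IsPullback (pullback.snd gX (q ≫ gY)) n q (pullback.snd gX gY) :=
    IsPullback.of_bot (h₁₁ := pullback.snd gX (q ≫ gY)) (v₁₁ := n) (v₁₂ := q)
      (h₂₁ := pullback.snd gX gY) (v₂₁ := pullback.fst gX gY) (v₂₂ := gY) (h₃₁ := gX)
      (by rw [show n ≫ pullback.fst gX gY = pullback.fst _ _ from pullback.lift_fst _ _ _]
          exact (IsPullback.of_hasPullback _ _).flip)
      (pullback.lift_snd _ _ _).symm (IsPullback.of_hasPullback _ _).flip
  have hπ : π = m ≫ n := by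
    apply pullback.hom_ext
    · rw [hπ1, Category.assoc, pullback.lift_fst, pullback.lift_fst]
    · rw [hπ2, Category.assoc, pullback.lift_snd, pullback.lift_snd_assoc]
  let τH : H → (pullback gX (q ≫ gY) ⟶ pullback gX (q ≫ gY)) := fun h =>
    pullback.map gX (q ≫ gY) gX (q ≫ gY) (𝟙 _) (σ h).hom (𝟙 _)
      (by rw [Category.comp_id, Category.id_comp])
      (by rw [Category.comp_id, reassoc_of% (hQ.inv h)])
  have hτ1 : ∀ h, τH h ≫ pullback.fst _ _ = pullback.fst _ _ := fun h => by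
    simp [τH, pullback.map, pullback.lift_fst]
  have hτ2 : ∀ h, τH h ≫ pullback.snd _ _ = pullback.snd _ _ ≫ (σ h).hom := fun h => by
    simp [τH, pullback.map, pullback.lift_snd]
  let τ : H →* Aut (pullback gX (q ≫ gY)) :=
    { toFun := fun h =>
        { hom := τH h
          inv := τH h⁻¹
          hom_inv_id := by
            apply pullback.hom_ext
            · simp [hτ1]
            · simp only [Category.assoc, hτ2, reassoc_of% (hτ2 h), Category.id_comp]
              rw [← map_mul_hom, inv_mul_cancel, map_one_hom, Category.comp_id]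
          inv_hom_id := by
            apply pullback.hom_ext
            · simp [hτ1]
            · simp only [Category.assoc, hτ2, reassoc_of% (hτ2 h⁻¹), Category.id_comp]
              rw [← map_mul_hom, mul_inv_cancel, map_one_hom, Category.comp_id] }
      map_one' := by
        ext1
        show τH 1 = 𝟙 _
        apply pullback.hom_ext
        · simp [hτ1]
        · rw [hτ2, map_one_hom, Category.comp_id, Category.id_comp]
      map_mul' := fun h h' => by
        ext1
        show τH (h * h') = τH h' ≫ τH h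
        apply pullback.hom_ext
        · simp [hτ1]
        · rw [Category.assoc, hτ2, hτ2, reassoc_of% (hτ2 h'), map_mul_hom] }
  have q₁ : SGA1.IsQuot (θ.comp (MonoidHom.inl G H)) m :=
    baseChange_flat hP _ _ m hm _ (fun g => hθ1 (g, 1)) fun g => by
      show (θ (g, 1)).hom ≫ m = m
      apply pullback.hom_ext
      · rw [Category.assoc, pullback.lift_fst, reassoc_of% (hθ1 (g, 1)), hP.inv]
      · rw [Category.assoc, pullback.lift_snd, hθ2, map_one_hom, Category.comp_id]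
  have q₂ : SGA1.IsQuot τ n :=
    baseChange_flat hQ _ _ n hn τ hτ2 fun h => by
      show τH h ≫ n = n
      apply pullback.hom_ext
      · rw [Category.assoc, pullback.lift_fst, hτ1]
      · rw [Category.assoc, pullback.lift_snd, reassoc_of% (hτ2 h), hQ.inv]
  rw [hπ]
  refine isQuot_comp q₁ q₂ (fun gh => ?_) (fun g => ⟨(g, 1), rfl⟩) (fun h => ⟨(1, h), ?_⟩)
  · apply pullback.hom_ext
    · simp only [m, n, Category.assoc, pullback.lift_fst]
      rw [reassoc_of% (hθ1 gh), hP.inv]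
    · simp only [m, n, Category.assoc, pullback.lift_snd, pullback.lift_snd_assoc]
      rw [reassoc_of% (hθ2 gh), hQ.inv]
  · show (θ (1, h)).hom ≫ m = m ≫ τH h
    apply pullback.hom_ext
    · rw [Category.assoc, Category.assoc, pullback.lift_fst, hτ1, pullback.lift_fst,
        reassoc_of% (hθ1 (1, h)), map_one_hom, Category.id_comp]
    · rw [Category.assoc, Category.assoc, pullback.lift_snd, hθ2, hτ2, pullback.lift_snd_assoc]

end Groth.Agent.IsQuot25
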