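import Groth.Agent.Lib.IsQuot25.Desc
import Mathlib.AlgebraicGeometry.Morphisms.ClosedImmersion

/-!
# Quotient of an open piece by its stabilizer
-/

set_option autoImplicit false
set_option backward.isDefEq.respectTransparency.types false
universe u

open CategoryTheory AlgebraicGeometry TopologicalSpace Opposite

namespace Groth.Agent.IsQuot25

theorem appLE_comp_apply {X Y Z : Scheme.{u}} (f : X ⟶ Y) (g : Y ⟶ Z) {U : Z.Opens} {V : Y.Opens}
    {W : X.Opens} (e₁ : V ≤ g ⁻¹ᵁ U) (e₂ : W ≤ f ⁻¹ᵁ V) {k : X ⟶ Z} (hk : f ≫ g = k) (s : Γ(Z, U)) :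
    f.appLE V W e₂ (g.appLE U V e₁ s) =
      k.appLE U W (hk ▸ e₂.trans ((Opens.map f.base).monotone e₁)) s := by
  subst hk
  exact congr($(Scheme.Hom.appLE_comp_appLE f g U V W e₁ e₂) s)

theorem map_appLE_apply {X Y : Scheme.{u}} (f : X ⟶ Y) {U U' : Y.Opens} {V : X.Opens} (i : U ≤ U')
    (e : V ≤ f ⁻¹ᵁ U) (s : Γ(Y, U')) :
    f.appLE U V e (Y.presheaf.map (homOfLE i).op s) =
      f.appLE U' V (e.trans ((Opens.map f.base).monotone i)) s :=
  congr($(Scheme.Hom.map_appLE f e (homOfLE i).op) s)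

theorem appLE_map_apply {X Y : Scheme.{u}} (f : X ⟶ Y) {U : Y.Opens} {V V' : X.Opens} (i : V' ≤ V)
    (e : V ≤ f ⁻¹ᵁ U) (s : Γ(Y, U)) :
    X.presheaf.map (homOfLE i).op (f.appLE U V e s) = f.appLE U V' (i.trans e) s :=
  congr($(Scheme.Hom.appLE_map f e (homOfLE i).op) s)

theorem appLE_id_apply {X : Scheme.{u}} {f : X ⟶ X} (hf : f = 𝟙 X) {U V : X.Opens} (e : V ≤ f ⁻¹ᵁ U)
    (i : V ≤ U) (s : Γ(X, U)) :
    f.appLE U V e s = X.presheaf.map (homOfLE i).op s := by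
  subst hf
  rw [Scheme.Hom.appLE, Scheme.Hom.id_app]
  rfl

theorem map_map_cancel {X : Scheme.{u}} {A B : X.Opens} (h₁ : A ≤ B) (h₂ : B ≤ A) (x : Γ(X, A)) :
    X.presheaf.map (homOfLE h₁).op (X.presheaf.map (homOfLE h₂).op x) = x := by
  rw [← CommRingCat.comp_apply, ← X.presheaf.map_comp]
  exact congr($(X.presheaf.map_id _) x)

variable {X Z : Scheme.{u}} {G : Type u} [Group G] [Finite G] {ρ : G →* Aut X} {p : X ⟶ Z}

omit [Finite G] in
theorem mem_of_mem_subgroup (H : Subgroup G) (Y : X.Opens) (ρY : H →* Aut Y.toScheme)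
    (hρY : ∀ h : H, (ρY h).hom ≫ Y.ι = Y.ι ≫ (ρ (h : G)).hom) {h : G} (hh : h ∈ H) {x : X} (hx : x ∈ Y) :
    (ρ h).hom x ∈ Y := by
  have := congr($(hρY ⟨h, hh⟩) (⟨x, hx⟩ : Y))
  simp only [Scheme.Hom.comp_apply] at this
  exact this ▸ ((ρY ⟨h, hh⟩).hom ⟨x, hx⟩).2

theorem isQuot_coset (hp : SGA1.IsQuot ρ p) (H : Subgroup G) (Y : X.Opens)
    (hcov : ∀ x : X, ∃ g : G, x ∈ (ρ g).hom.base '' (Y : Set X))
    (hdisj : ∀ g : G, g ∉ H → Disjoint ((ρ g).hom.base '' (Y : Set X)) (Y : Set X))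
    (ρY : H →* Aut Y.toScheme) (hρY : ∀ h : H, (ρY h).hom ≫ Y.ι = Y.ι ≫ (ρ (h : G)).hom) :
    SGA1.IsQuot ρY (Y.ι ≫ p) := by
  classical
  haveI := hp.affine
  have hsep : ∀ {g : G} {x : X}, x ∈ Y → (ρ g).hom x ∈ Y → g ∈ H := fun {g x} hx hgx => by
    by_contra hg
    exact Set.disjoint_left.1 (hdisj g hg) ⟨x, hx, rfl⟩ hgx
  have hclosed : IsClosed (Y : Set X) := by
    rw [← isOpen_compl_iff]
    have : (Y : Set X)ᶜ = ⋃ g : {g : G // g ∉ H}, (ρ g.1⁻¹).hom ⁻¹' (Y : Set X) := by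
      ext x
      simp only [Set.mem_compl_iff, Set.mem_iUnion, Set.mem_preimage]
      constructor
      · intro hx
        obtain ⟨g, y, hy, rfl⟩ := hcov x
        refine ⟨⟨g, fun hg => hx (mem_of_mem_subgroup H Y ρY hρY hg hy)⟩, ?_⟩
        show (ρ g⁻¹).hom ((ρ g).hom y) ∈ Y
        rwa [inv_apply_apply]
      · rintro ⟨⟨g, hg⟩, hx⟩ hxY
        exact hg (H.inv_mem_iff.1 (hsep hxY hx))
    rw [this]
    exact isOpen_iUnion fun g => Y.2.preimage (ρ g.1⁻¹).hom.continuous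
  haveI : IsClosedImmersion Y.ι :=
    .of_isPreimmersion _ (by rw [Scheme.Opens.range_ι]; exact hclosed)
  have hinv : ∀ h : H, (ρY h).hom ≫ Y.ι ≫ p = Y.ι ≫ p := fun h => by
    rw [reassoc_of% (hρY h), hp.inv]
  refine ⟨inferInstance, hinv, fun U => ?_, fun U s => ?_⟩
  all_goals
    let W : X.Opens := p ⁻¹ᵁ U
    have hW : ∀ g : G, (ρ g).hom ⁻¹ᵁ W = W := fun g => by
      show (ρ g).hom ⁻¹ᵁ (p ⁻¹ᵁ U) = p ⁻¹ᵁ U
      rw [← Scheme.Hom.comp_preimage, hp.inv]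
    let P : G → X.Opens := fun g => (ρ g).hom ⁻¹ᵁ (Y ⊓ W)
    have hPW : ∀ g, P g ≤ W := fun g x hx => (hW g).le hx.2
    have hP1 : P 1 = Y ⊓ W := by simp only [P]; rw [map_one_hom]; rfl
    have hcover : W ≤ iSup P := fun x hx => by
      obtain ⟨g, y, hy, rfl⟩ := hcov x
      refine Opens.mem_iSup.2 ⟨g⁻¹, ?_⟩
      show (ρ g⁻¹).hom ((ρ g).hom y) ∈ Y ⊓ W
      rw [inv_apply_apply]
      exact ⟨hy, (hW g).le hx⟩
    have hYW : Y.ι ⁻¹ᵁ W = Y.ι ⁻¹ᵁ (Y ⊓ W) := by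
      ext x; exact ⟨fun h => ⟨x.2, h⟩, fun h => h.2⟩
    let β : Γ(X, Y ⊓ W) ⟶ Γ(Y.toScheme, Y.ι ⁻¹ᵁ W) := Y.ι.appLE (Y ⊓ W) _ hYW.le
    have hβ : Function.Bijective β := by
      have hi : Y ⊓ W ≤ Y.ι ''ᵁ (Y.ι ⁻¹ᵁ W) := fun x hx => ⟨⟨x, hx.1⟩, hx.2, rfl⟩
      have : β = X.presheaf.map (homOfLE (show Y.ι ''ᵁ (Y.ι ⁻¹ᵁ W) ≤ Y ⊓ W by
          rintro _ ⟨x, hx, rfl⟩; exact ⟨x.2, hx⟩)).op := Scheme.Opens.ι_appLE _ _ _ _
      rw [this]
      exact Function.bijective_iff_has_inverse.2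
        ⟨X.presheaf.map (homOfLE hi).op, fun x => map_map_cancel (X := X) _ _ x, fun x => map_map_cancel (X := X) _ _ x⟩
    have happ : ∀ a, (Y.ι ≫ p).app U a =
        β (X.presheaf.map (homOfLE inf_le_right).op (p.app U a)) := fun a => by
      rw [Scheme.Hom.comp_app]
      show Y.ι.app W (p.app U a) = Y.ι.appLE (Y ⊓ W) (Y.ι ⁻¹ᵁ W) hYW.le
        (X.presheaf.map (homOfLE inf_le_right).op (p.app U a))
      rw [map_appLE_apply, Scheme.Hom.app_eq_appLE]
    have hrestr : ∀ (s : Γ(X, W)), (∀ g, actHom hp.inv U g s = s) → ∀ g,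
        X.presheaf.map (homOfLE (hPW g)).op s =
          (ρ g).hom.appLE (Y ⊓ W) (P g) le_rfl (X.presheaf.map (homOfLE inf_le_right).op s) := by
      intro s hs g
      rw [map_appLE_apply]
      conv_lhs => rw [← hs g]
      exact appLE_map_apply _ (hPW g) _ s
  · intro a b hab
    apply hp.injective U
    rw [happ, happ] at hab
    have e := hβ.1 hab
    refine TopCat.Sheaf.eq_of_locally_eq' X.sheaf P W (fun g => homOfLE (hPW g)) hcover _ _ fun g => ?_
    show X.presheaf.map (homOfLE (hPW g)).op (p.app U a) = X.presheaf.map (homOfLE (hPW g)).op (p.app U b)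
    have ha := hrestr (p.app U a) (fun g => congr($(actHom_app hp.inv U g) a)) g
    have hb := hrestr (p.app U b) (fun g => congr($(actHom_app hp.inv U g) b)) g
    exact ha.trans ((congrArg _ e).trans hb.symm)
  · constructor
    · rintro ⟨a, rfl⟩ h
      rw [Scheme.Hom.app_eq_appLE]
      exact (appLE_comp_apply _ _ _ _ (hinv h) a)
    · intro hs
      obtain ⟨t, rfl⟩ := hβ.2 s
      have hYinv : ∀ (h : G), h ∈ H → Y ⊓ W ≤ (ρ h).hom ⁻¹ᵁ (Y ⊓ W) := fun h hh x hx =>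
        ⟨mem_of_mem_subgroup H Y ρY hρY hh hx.1, (hW h).ge hx.2⟩
      have ht : ∀ (h : G) (hh : h ∈ H), (ρ h).hom.appLE (Y ⊓ W) (Y ⊓ W) (hYinv h hh) t = t := by
        intro h hh
        apply hβ.1
        refine Eq.trans ?_ (hs ⟨h, hh⟩)
        show Y.ι.appLE _ _ _ _ = (ρY ⟨h, hh⟩).hom.appLE _ _ _ (Y.ι.appLE _ _ _ t)
        rw [appLE_comp_apply Y.ι (ρ h).hom _ _ rfl]
        exact (appLE_comp_apply (ρY ⟨h, hh⟩).hom Y.ι _ _ (hρY ⟨h, hh⟩) t).symm
      let sf : ∀ g, Γ(X, P g) := fun g => (ρ g).hom.appLE (Y ⊓ W) (P g) le_rfl t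
      have hcompat : TopCat.Presheaf.IsCompatible X.sheaf.1 P sf := by
        intro g g'
        show X.presheaf.map (homOfLE inf_le_left).op (sf g) =
          X.presheaf.map (homOfLE inf_le_right).op (sf g')
        by_cases hH : g' * g⁻¹ ∈ H
        · simp only [sf]
          rw [appLE_map_apply, appLE_map_apply]
          conv_lhs => rw [← ht _ hH]
          exact appLE_comp_apply _ _ _ _ (by rw [← map_mul_hom, inv_mul_cancel_right]) t
        · have hbot : P g ⊓ P g' = ⊥ := by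
            ext x
            refine ⟨fun hx => hH (hsep (g := g' * g⁻¹) hx.1.1 ?_), fun hx => hx.elim⟩
            rw [act_apply_apply, inv_mul_cancel_right]
            exact hx.2.1
          haveI : Subsingleton Γ(X, P g ⊓ P g') := by rw [hbot]; infer_instance
          exact Subsingleton.elim _ _
      obtain ⟨s', hs', -⟩ := TopCat.Sheaf.existsUnique_gluing' X.sheaf P W
        (fun g => homOfLE (hPW g)) hcover sf hcompat
      have hs'' : ∀ g, X.presheaf.map (homOfLE (hPW g)).op s' = sf g := hs'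
      obtain ⟨a, ha⟩ := (mem_range_iff hp U s').2 fun k => by
        refine TopCat.Sheaf.eq_of_locally_eq' X.sheaf P W (fun g => homOfLE (hPW g)) hcover _ _
          fun g => ?_
        show X.presheaf.map (homOfLE (hPW g)).op (actHom hp.inv U k s') =
          X.presheaf.map (homOfLE (hPW g)).op s'
        have hle : P g ≤ (ρ k).hom ⁻¹ᵁ P (g * k⁻¹) := fun x hx => by
          show (ρ (g * k⁻¹)).hom ((ρ k).hom x) ∈ Y ⊓ W
          rw [act_apply_apply, inv_mul_cancel_right]; exact hx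
        rw [hs'' g]
        refine (appLE_map_apply (ρ k).hom (hPW g) _ s').trans ?_
        rw [← map_appLE_apply (ρ k).hom (hPW (g * k⁻¹)) hle s', hs'' (g * k⁻¹)]
        exact appLE_comp_apply _ _ _ _ (by rw [← map_mul_hom, inv_mul_cancel_right]) t
      refine ⟨a, (happ a).trans (congrArg β ?_)⟩
      have e1 := hs'' 1
      rw [ha]
      have hi : Y ⊓ W ≤ P 1 := hP1.ge
      have h2 := congrArg (X.presheaf.map (homOfLE hi).op) e1
      simp only [sf] at h2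
      rw [appLE_map_apply, appLE_id_apply (map_one_hom ρ) _ le_rfl,
        ← CommRingCat.comp_apply, ← X.presheaf.map_comp] at h2
      refine Eq.trans ?_ (h2.trans ?_)
      · rfl
      · exact congr($(X.presheaf.map_id _) t)

end Groth.Agent.IsQuot25
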