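import Groth.Agent.Lib.IsQuot25.Coset
import Groth.Agent.Lib.IsQuot25.Exists
import Groth.Agent.Lib.IsQuot25.Torsor
import Groth.Agent.Lib.AlgSpDescent.SchemeSource

/-!
# Quotients of étale schemes by finite groups are étale
-/

set_option autoImplicit false
set_option backward.isDefEq.respectTransparency.types false
universe u

open CategoryTheory CategoryTheory.Limits AlgebraicGeometry TopologicalSpace

namespace Groth.Agent.IsQuot25

/-- Changing the group along a surjection does not change the quotient. -/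
theorem isQuot_of_surjective {X Y : Scheme.{u}} {G G' : Type u} [Group G] [Group G'] {ρ : G →* Aut X}
    {p : X ⟶ Y} (hp : SGA1.IsQuot ρ p) (φ : G →* G') (hφ : Function.Surjective φ) (ρ' : G' →* Aut X)
    (h : ∀ g, ρ' (φ g) = ρ g) : SGA1.IsQuot ρ' p := by
  have hh : ∀ g, (ρ' (φ g)).hom = (ρ g).hom := fun g => congrArg Iso.hom (h g)
  have hinv : ∀ g', (ρ' g').hom ≫ p = p := fun g' => by
    obtain ⟨g, rfl⟩ := hφ g'
    rw [hh, hp.inv]
  refine ⟨hp.affine, hinv, hp.injective, fun U s => (hp.range_iff U s).trans ⟨fun H g' => ?_, fun H g => ?_⟩⟩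
  · obtain ⟨g, rfl⟩ := hφ g'
    rw [appLE_eq (hh g)]
    exact H g
  · have := H (φ g)
    rw [appLE_eq (hh g)] at this
    exact this

section

variable {X Y : Scheme.{u}} {G : Type u} [Group G] (ρ : G →* Aut X) (f : X ⟶ Y)
  (hρ : ∀ g : G, (ρ g).hom ≫ f = f)

/-- The locus where `g` acts trivially. -/
noncomputable def fixLocus [Etale f] (g : G) : X.Opens :=
  (pullback.lift (f := f) (g := f) (𝟙 X) (ρ g).hom (by rw [Category.id_comp, hρ g])) ⁻¹ᵁ
    (pullback.diagonal f).opensRange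

theorem isClosed_fixLocus [Etale f] [IsSeparated f] (g : G) :
    IsClosed (fixLocus ρ f hρ g : Set X) :=
  ((pullback.diagonal f).isClosedEmbedding.isClosed_range.preimage (Scheme.Hom.continuous _) :)

theorem fixLocus_ι [Etale f] (g : G) :
    (fixLocus ρ f hρ g).ι ≫ (ρ g).hom = (fixLocus ρ f hρ g).ι := by
  let P := pullback.lift (f := f) (g := f) (𝟙 X) (ρ g).hom (by rw [Category.id_comp, hρ g])
  let c := IsOpenImmersion.lift (pullback.diagonal f) ((fixLocus ρ f hρ g).ι ≫ P) (by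
    rintro _ ⟨z, rfl⟩
    exact z.2)
  have hc : c ≫ pullback.diagonal f = (fixLocus ρ f hρ g).ι ≫ P := IsOpenImmersion.lift_fac _ _ _
  have h1 := congrArg (· ≫ pullback.fst f f) hc
  have h2 := congrArg (· ≫ pullback.snd f f) hc
  simp only [Category.assoc, pullback.diagonal_fst, pullback.diagonal_snd, Category.comp_id, P,
    pullback.lift_fst, pullback.lift_snd] at h1 h2
  rw [← h2, h1]

theorem mem_fixLocus [Etale f] (g : G) (x : X) :
    x ∈ fixLocus ρ f hρ g ↔ X.fromSpecResidueField x ≫ (ρ g).hom = X.fromSpecResidueField x := by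
  constructor
  · intro hx
    let l := IsOpenImmersion.lift (fixLocus ρ f hρ g).ι (X.fromSpecResidueField x) (by
      rintro _ ⟨s, rfl⟩
      rw [Scheme.Opens.range_ι, Scheme.fromSpecResidueField_apply]
      exact hx)
    have hl : l ≫ (fixLocus ρ f hρ g).ι = X.fromSpecResidueField x := IsOpenImmersion.lift_fac _ _ _
    rw [← hl, Category.assoc, fixLocus_ι]
  · intro h
    refine ⟨x, ?_⟩
    let pt : Spec (X.residueField x) := IsLocalRing.closedPoint _
    have hpt : X.fromSpecResidueField x pt = x := Scheme.fromSpecResidueField_apply x pt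
    rw [← hpt, ← Scheme.Hom.comp_apply, ← Scheme.Hom.comp_apply]
    refine congrArg (fun m : Spec (X.residueField x) ⟶ _ => m pt) ?_
    apply pullback.hom_ext
    · simp [pullback.lift_fst]
    · simp [pullback.lift_snd, h]

theorem mem_fixLocus_of_eq [Etale f] (g : G) {K : Type u} [Field K]
    (ξ : Spec (CommRingCat.of K) ⟶ X) (h : ξ ≫ (ρ g).hom = ξ) :
    ξ (IsLocalRing.closedPoint K) ∈ fixLocus ρ f hρ g := by
  refine ⟨ξ (IsLocalRing.closedPoint K), ?_⟩
  rw [← Scheme.Hom.comp_apply, ← Scheme.Hom.comp_apply]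
  refine congrArg (fun m : Spec (CommRingCat.of K) ⟶ _ => m (IsLocalRing.closedPoint K)) ?_
  apply pullback.hom_ext
  · simp [pullback.lift_fst]
  · simp [pullback.lift_snd, h]

theorem fixLocus_mul [Etale f] {g h : G} {x : X} (hg : x ∈ fixLocus ρ f hρ g)
    (hh : x ∈ fixLocus ρ f hρ h) : x ∈ fixLocus ρ f hρ (g * h) := by
  rw [mem_fixLocus] at hg hh ⊢
  rw [map_mul_hom, ← Category.assoc, hh, hg]

theorem fixLocus_conj [Etale f] (k g : G) (x : X) :
    (ρ k).hom x ∈ fixLocus ρ f hρ (k * g * k⁻¹) ↔ x ∈ fixLocus ρ f hρ g := by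
  constructor
  · intro h
    rw [mem_fixLocus] at h
    let pt : Spec (X.residueField ((ρ k).hom x)) := IsLocalRing.closedPoint _
    have := mem_fixLocus_of_eq ρ f hρ g (K := X.residueField ((ρ k).hom x))
      (X.fromSpecResidueField ((ρ k).hom x) ≫ (ρ k⁻¹).hom) (by
        rw [Category.assoc, ← map_mul_hom, show g * k⁻¹ = k⁻¹ * (k * g * k⁻¹) by group, map_mul_hom,
          reassoc_of% h])
    rwa [Scheme.Hom.comp_apply, Scheme.fromSpecResidueField_apply, inv_apply_apply] at this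
  · intro h
    rw [mem_fixLocus] at h
    have := mem_fixLocus_of_eq ρ f hρ (k * g * k⁻¹) (K := X.residueField x)
      (X.fromSpecResidueField x ≫ (ρ k).hom) (by
        rw [Category.assoc, ← map_mul_hom, inv_mul_cancel_right, map_mul_hom, reassoc_of% h])
    rwa [Scheme.Hom.comp_apply, Scheme.fromSpecResidueField_apply] at this

variable [Finite G]

theorem etale_of_etale {X' : Scheme.{u}} [Etale f] [IsSeparated f]
    (hρ : ∀ g : G, (ρ g).hom ≫ f = f) {p : X ⟶ X'} (hp : SGA1.IsQuot ρ p) : Etale p := by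
  classical
  have hfix1 : ∀ x, x ∈ fixLocus ρ f hρ 1 := fun x =>
    (mem_fixLocus ρ f hρ 1 x).2 (by rw [map_one_hom, Category.comp_id])
  let N : X → Subgroup G := fun x =>
    { carrier := {g | x ∈ fixLocus ρ f hρ g}
      mul_mem' := fun {a b} ha hb => fixLocus_mul ρ f hρ ha hb
      one_mem' := hfix1 x
      inv_mem' := fun {a} ha => by
        show x ∈ fixLocus ρ f hρ a⁻¹
        have h := (mem_fixLocus ρ f hρ a x).1 ha
        refine (mem_fixLocus ρ f hρ a⁻¹ x).2 ?_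
        conv_lhs => rw [← h, Category.assoc, ← map_mul_hom, inv_mul_cancel, map_one_hom, Category.comp_id] }
  have hNconj : ∀ k g x, k * g * k⁻¹ ∈ N ((ρ k).hom x) ↔ g ∈ N x := fun k g x =>
    fixLocus_conj ρ f hρ k g x
  let Z : X → X.Opens := fun x =>
    ⟨⋂ g : G, if x ∈ fixLocus ρ f hρ g then (fixLocus ρ f hρ g : Set X) else (fixLocus ρ f hρ g : Set X)ᶜ,
      isOpen_iInter_of_finite fun g => by
        split_ifs
        · exact (fixLocus ρ f hρ g).2
        · exact (isClosed_fixLocus ρ f hρ g).isOpen_compl⟩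
  have hmemZ : ∀ x z, z ∈ Z x ↔ N z = N x := by
    intro x z
    show z ∈ ⋂ g : G, _ ↔ _
    rw [Set.mem_iInter, SetLike.ext_iff]
    refine forall_congr' fun g => ?_
    show _ ↔ (z ∈ fixLocus ρ f hρ g ↔ x ∈ fixLocus ρ f hρ g)
    split_ifs with h <;> simp [h]
  rw [IsZariskiLocalAtSource.iff_of_iSup_eq_top (P := @Etale) Z
    (top_le_iff.1 fun x _ => Opens.mem_iSup.2 ⟨x, (hmemZ x x).2 rfl⟩)]
  intro x
  let H : Subgroup G :=
    { carrier := {k | ∀ g, k * g * k⁻¹ ∈ N x ↔ g ∈ N x}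
      one_mem' := fun g => by simp
      mul_mem' := fun {a b} ha hb g => by
        rw [show a * b * g * (a * b)⁻¹ = a * (b * g * b⁻¹) * a⁻¹ by group, ha, hb]
      inv_mem' := fun {a} ha g => by
        rw [← ha (a⁻¹ * g * a⁻¹⁻¹), show a * (a⁻¹ * g * a⁻¹⁻¹) * a⁻¹ = g by group] }
  -- the saturation
  let W : X.Opens := ⨆ k : G, (ρ k).hom ⁻¹ᵁ Z x
  have hW : ∀ k, (ρ k).hom ⁻¹ᵁ W = W := fun k => by
    ext z
    show (ρ k).hom z ∈ W ↔ z ∈ W
    simp only [W, Opens.mem_iSup]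
    show (∃ i, (ρ i).hom ((ρ k).hom z) ∈ Z x) ↔ ∃ i, (ρ i).hom z ∈ Z x
    constructor
    · rintro ⟨i, hi⟩; rw [act_apply_apply] at hi; exact ⟨_, hi⟩
    · rintro ⟨i, hi⟩
      refine ⟨i * k⁻¹, ?_⟩
      rwa [act_apply_apply, inv_mul_cancel_right]
  have hZW : Z x ≤ W := fun z hz => Opens.mem_iSup.2 ⟨1, by
    show (ρ 1).hom z ∈ Z x
    rw [map_one_hom]; exact hz⟩
  obtain ⟨U, q, hq, hQ, -⟩ := exists_isQuot_of_le hp W.ι (restr ρ W hW) (restr_ι ρ W hW)
  let Z' : W.toScheme.Opens := W.ι ⁻¹ᵁ Z x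
  have hHZ : ∀ k ∈ H, ∀ z ∈ Z x, (ρ k).hom z ∈ Z x := fun k hk z hz => by
    rw [hmemZ] at hz ⊢
    ext g
    rw [show g = k * (k⁻¹ * g * k) * k⁻¹ by group, hNconj, hz]
    exact (hk _).symm
  have hZ' : ∀ k : H, (restr ρ W hW k.1).hom ⁻¹ᵁ Z' = Z' := fun k => by
    ext z
    show (W.ι ((restr ρ W hW k.1).hom z)) ∈ Z x ↔ W.ι z ∈ Z x
    rw [← Scheme.Hom.comp_apply, restr_ι, Scheme.Hom.comp_apply]
    refine ⟨fun h => ?_, hHZ k.1 k.2 _⟩
    have := hHZ k.1⁻¹ (H.inv_mem k.2) _ h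
    rwa [inv_apply_apply] at this
  let ρZ : H →* Aut Z'.toScheme := restr ((restr ρ W hW).comp H.subtype) Z' hZ'
  have hρZ : ∀ k : H, (ρZ k).hom ≫ Z'.ι = Z'.ι ≫ (restr ρ W hW k.1).hom := fun k =>
    restr_ι ((restr ρ W hW).comp H.subtype) Z' hZ' k
  have hcoset : SGA1.IsQuot ρZ (Z'.ι ≫ q) := by
    refine isQuot_coset hQ H Z' (fun w => ?_) (fun g hg => ?_) ρZ hρZ
    · obtain ⟨k, hk⟩ := Opens.mem_iSup.1 w.2
      refine ⟨k⁻¹, (restr ρ W hW k).hom w, ?_, inv_apply_apply (restr ρ W hW) k w⟩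
      show W.ι ((restr ρ W hW k).hom w) ∈ Z x
      rw [← Scheme.Hom.comp_apply, restr_ι]
      exact hk
    · rw [Set.disjoint_left]
      rintro _ ⟨z, hz, rfl⟩ hz'
      refine hg fun a => ?_
      have h1 : N (W.ι z) = N x := (hmemZ _ _).1 hz
      have h2 : N ((ρ g).hom (W.ι z)) = N x := by
        rw [← Scheme.Hom.comp_apply W.ι, ← restr_ι ρ W hW g, Scheme.Hom.comp_apply]
        exact (hmemZ _ _).1 hz'
      conv_lhs => rw [← h2, hNconj]
      rw [h1]
  -- pass to the effective quotient group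
  let M : Subgroup H := (N x).subgroupOf H
  haveI : M.Normal := ⟨fun a ha k => by
    show (k * a * k⁻¹ : H).1 ∈ N x
    exact (k.2 a.1).2 ha⟩
  let ι' : Z'.toScheme ⟶ X := Z'.ι ≫ W.ι
  haveI : IsOpenImmersion ι' := inferInstanceAs (IsOpenImmersion (Z'.ι ≫ W.ι))
  have hι' : ∀ k : H, (ρZ k).hom ≫ ι' = ι' ≫ (ρ k.1).hom := fun k => by
    simp only [ι']
    rw [reassoc_of% (hρZ k), restr_ι, Category.assoc]
  have hmem : ∀ z : Z'.toScheme, N (ι' z) = N x := fun z => (hmemZ _ _).1 z.2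
  have htriv : M ≤ ρZ.ker := fun k hk => by
    rw [MonoidHom.mem_ker]
    ext1
    rw [← cancel_mono ι', hι']
    let l := IsOpenImmersion.lift (fixLocus ρ f hρ k.1).ι ι' (by
      rintro _ ⟨z, rfl⟩
      rw [Scheme.Opens.range_ι]
      show k.1 ∈ N (ι' z)
      rw [hmem]; exact hk)
    have hl : l ≫ (fixLocus ρ f hρ k.1).ι = ι' := IsOpenImmersion.lift_fac _ _ _
    rw [← hl, Category.assoc, fixLocus_ι]
    exact (Category.id_comp _).symm
  let ρbar : H ⧸ M →* Aut Z'.toScheme := QuotientGroup.lift M ρZ htriv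
  have hbar : SGA1.IsQuot ρbar (Z'.ι ≫ q) :=
    isQuot_of_surjective hcoset (QuotientGroup.mk' M) (QuotientGroup.mk'_surjective M) ρbar
      fun _ => rfl
  have hfree : Free ρbar := by
    intro K _ _ ξ c hc
    obtain ⟨k, rfl⟩ := QuotientGroup.mk_surjective c
    change ξ ≫ (ρZ k).hom = ξ at hc
    rw [QuotientGroup.eq_one_iff]
    show k.1 ∈ N x
    rw [← hmem (ξ (IsLocalRing.closedPoint K))]
    have := mem_fixLocus_of_eq ρ f hρ k.1 (ξ ≫ ι') (by
      rw [Category.assoc, ← hι', reassoc_of% hc])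
    rwa [Scheme.Hom.comp_apply] at this
  haveI := etale hbar hfree
  -- compare with the restriction of `p`
  have hle : (Z x).ι.opensRange ≤ ι'.opensRange := by
    rintro _ ⟨z, rfl⟩
    exact ⟨⟨⟨z.1, hZW z.2⟩, z.2⟩, rfl⟩
  let j := IsOpenImmersion.lift ι' (Z x).ι hle
  have hj : j ≫ ι' = (Z x).ι := IsOpenImmersion.lift_fac _ _ _
  haveI : IsOpenImmersion (j ≫ ι') := by rw [hj]; infer_instance
  haveI : IsOpenImmersion j := IsOpenImmersion.of_comp j ι'
  have : (Z x).ι ≫ p = j ≫ (Z'.ι ≫ q) ≫ U.ι := by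
    rw [← hj]
    simp only [ι', Category.assoc, hq]
  rw [this]
  infer_instance

end

end Groth.Agent.IsQuot25
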