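import Mathlib.RingTheory.Invariant.Basic
import Mathlib.RingTheory.Smooth.Fiber
import Mathlib.RingTheory.Unramified.Finite
import Mathlib.Algebra.Module.Projective
import Mathlib.LinearAlgebra.TensorProduct.Finiteness
import Mathlib.RingTheory.Finiteness.ModuleFinitePresentation

/-!
# Galois extensions of rings (Chase–Harrison–Rosenberg)
-/

set_option autoImplicit false
universe u

open TensorProduct

namespace Groth.Agent.IsQuot25.GalExt

variable (A B G : Type u) [CommRing A] [CommRing B] [Algebra A B] [Group G]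
  [MulSemiringAction G B] [SMulCommClass G A B]

/-- `a ⊗ b ↦ (g ↦ a * g • b)`. -/
noncomputable def Φ : B ⊗[A] B →ₐ[A] (G → B) :=
  Algebra.TensorProduct.lift (Pi.algHom A _ fun _ : G => AlgHom.id A B)
    (Pi.algHom A _ fun g : G => MulSemiringAction.toAlgHom A B g) fun _ _ => .all _ _

variable {A B G}

theorem Φ_tmul (a b : B) (g : G) : Φ A B G (a ⊗ₜ b) g = a * g • b := rfl

section

variable [Finite G] (hfree : ∀ g : G, g ≠ 1 → Ideal.span (Set.range fun b : B => b - g • b) = ⊤)

include hfree in
/-- The separating tensor. -/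
theorem exists_delta : ∃ z : B ⊗[A] B,
    Φ A B G z 1 = 1 ∧ ∀ g : G, g ≠ 1 → Φ A B G z g = 0 := by
  classical
  cases nonempty_fintype G
  have h1 : ∀ h : G, h ≠ 1 → ∃ z : B ⊗[A] B, Φ A B G z 1 = 1 ∧ Φ A B G z h = 0 := by
    intro h hh
    have key : ∀ c ∈ Ideal.span (Set.range fun b : B => b - h • b),
        ∃ z : B ⊗[A] B, Φ A B G z 1 = c ∧ Φ A B G z h = 0 := by
      intro c hc
      induction hc using Submodule.span_induction with
      | mem c hc =>
        obtain ⟨b, rfl⟩ := hc
        refine ⟨(1 : B) ⊗ₜ b - (h • b) ⊗ₜ (1 : B), ?_, ?_⟩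
        · rw [map_sub, Pi.sub_apply, Φ_tmul, Φ_tmul, smul_one, one_smul, one_mul, mul_one]
        · rw [map_sub, Pi.sub_apply, Φ_tmul, Φ_tmul, smul_one, one_mul, mul_one, sub_self]
      | zero => exact ⟨0, by simp, by simp⟩
      | add a b _ _ ha hb =>
        obtain ⟨z, hz1, hz2⟩ := ha
        obtain ⟨w, hw1, hw2⟩ := hb
        exact ⟨z + w, by simp [hz1, hw1], by simp [hz2, hw2]⟩
      | smul r a _ ha =>
        obtain ⟨z, hz1, hz2⟩ := ha
        refine ⟨(r ⊗ₜ (1 : B)) * z, ?_, ?_⟩
        · simp [Φ_tmul, hz1]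
        · simp [Φ_tmul, hz2]
    exact key 1 (hfree h hh ▸ Submodule.mem_top)
  choose w hw1 hw2 using h1
  refine ⟨∏ h : G, (if hh : h = 1 then 1 else w h hh), ?_, fun g hg => ?_⟩
  · rw [map_prod, Finset.prod_apply]
    exact Finset.prod_eq_one fun h _ => by split_ifs with hh <;> simp [hw1]
  · rw [map_prod, Finset.prod_apply]
    refine Finset.prod_eq_zero (Finset.mem_univ g) ?_
    rw [dif_neg hg, hw2]

variable [Algebra.IsInvariant A B G] (hinj : Function.Injective (algebraMap A B))

include hfree hinj in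
theorem main : Function.Bijective (Φ A B G) ∧ Module.Projective A B ∧ Module.Finite A B ∧
    Algebra.FormallyUnramified A B := by
  classical
  cases nonempty_fintype G
  obtain ⟨z, hz1, hz0⟩ := exists_delta (A := A) hfree
  obtain ⟨S, hS⟩ := TensorProduct.exists_finset (R := A) z
  have hsum : ∀ g : G, ∑ i ∈ S, i.1 * g • i.2 = if g = 1 then 1 else 0 := fun g => by
    have : Φ A B G z g = ∑ i ∈ S, i.1 * g • i.2 := by
      rw [hS, map_sum, Finset.sum_apply]; rfl
    rw [← this]
    split_ifs with hg
    · rw [hg, hz1]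
    · exact hz0 g hg
  have htr : ∀ b : B, ∃ a : A, algebraMap A B a = ∑ g : G, g • b := fun b =>
    Algebra.IsInvariant.isInvariant (G := G) _ fun h => by
      rw [Finset.smul_sum]
      exact Fintype.sum_equiv (Equiv.mulLeft h) _ _ fun g => by simp [mul_smul]
  choose tr htr using htr
  have hrecon : ∀ b : B, ∑ i ∈ S, algebraMap A B (tr (b * i.2)) * i.1 = b := by
    intro b
    have e : ∀ i : B × B, algebraMap A B (tr (b * i.2)) * i.1 =
        ∑ g : G, (g • b) * (i.1 * g • i.2) := fun i => by
      rw [htr, Finset.sum_mul]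
      exact Finset.sum_congr rfl fun g _ => by rw [smul_mul']; ring
    simp_rw [e]
    rw [Finset.sum_comm]
    simp_rw [← Finset.mul_sum, hsum]
    simp
  have hrecon' : ∀ b : B, ∑ i ∈ S, algebraMap A B (tr (b * i.1)) * i.2 = b := by
    intro b
    have hsum' : ∀ g : G, ∑ i ∈ S, g • i.1 * i.2 = if g = 1 then 1 else 0 := fun g => by
      have h1 := congrArg (g • ·) (hsum g⁻¹)
      simp only [Finset.smul_sum, smul_mul', smul_smul, mul_inv_cancel, one_smul] at h1
      rw [h1]
      simp only [inv_eq_one]
      split_ifs <;> simp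
    have e : ∀ i : B × B, algebraMap A B (tr (b * i.1)) * i.2 =
        ∑ g : G, (g • b) * (g • i.1 * i.2) := fun i => by
      rw [htr, Finset.sum_mul]
      exact Finset.sum_congr rfl fun g _ => by rw [smul_mul']; ring
    simp_rw [e]
    rw [Finset.sum_comm]
    simp_rw [← Finset.mul_sum, hsum']
    simp
  let ψ : (G → B) → B ⊗[A] B := fun f => ∑ g : G, ∑ i ∈ S, (f g * g • i.1) ⊗ₜ i.2
  have hΦψ : ∀ f, Φ A B G (ψ f) = f := fun f => by
    ext h
    have e : ∀ g : G, ∑ i ∈ S, f g * g • i.1 * h • i.2 = if g = h then f g else 0 := fun g => by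
      calc ∑ i ∈ S, f g * g • i.1 * h • i.2
          = f g * g • ∑ i ∈ S, i.1 * (g⁻¹ * h) • i.2 := by
            rw [Finset.smul_sum, Finset.mul_sum]
            exact Finset.sum_congr rfl fun i _ => by
              rw [smul_mul', smul_smul, mul_inv_cancel_left, mul_assoc]
        _ = _ := by
            rw [hsum]
            simp only [inv_mul_eq_one]
            split_ifs <;> simp
    simp only [ψ, map_sum, Finset.sum_apply, Φ_tmul, e]
    simp
  have hψΦ : ∀ x, ψ (Φ A B G x) = x := fun x => by
    induction x with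
    | zero => simp [ψ]
    | tmul a b =>
      simp only [ψ, Φ_tmul]
      rw [Finset.sum_comm]
      have e : ∀ i : B × B, ∑ g : G, (a * g • b * g • i.1) ⊗ₜ[A] i.2 =
          a ⊗ₜ[A] (algebraMap A B (tr (b * i.1)) * i.2) := fun i => by
        rw [← Algebra.smul_def, TensorProduct.tmul_smul, TensorProduct.smul_tmul',
          Algebra.smul_def, htr, Finset.sum_mul, ← TensorProduct.sum_tmul]
        exact congrArg (· ⊗ₜ[A] i.2) (Finset.sum_congr rfl fun g _ => by rw [smul_mul']; ring)
      simp_rw [e, ← TensorProduct.tmul_sum, hrecon']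
    | add x y hx hy =>
      have : ψ (Φ A B G x + Φ A B G y) = ψ (Φ A B G x) + ψ (Φ A B G y) := by
        simp [ψ, add_mul, TensorProduct.add_tmul, Finset.sum_add_distrib]
      rw [map_add, this, hx, hy]
  have hbij : Function.Bijective (Φ A B G) :=
    Function.bijective_iff_has_inverse.2 ⟨ψ, hψΦ, hΦψ⟩
  let trL : B →ₗ[A] A :=
    { toFun := fun b => tr b
      map_add' := fun a b => hinj (by
        rw [map_add, htr, htr, htr, ← Finset.sum_add_distrib]
        exact Finset.sum_congr rfl fun g _ => smul_add g a b)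
      map_smul' := fun r b => hinj (by
        rw [RingHom.id_apply, htr, smul_eq_mul, map_mul, htr, Finset.mul_sum]
        exact Finset.sum_congr rfl fun g _ => by
          rw [Algebra.smul_def r b, smul_mul', smul_algebraMap]) }
  let u : B →ₗ[A] (S → A) := LinearMap.pi fun i => trL ∘ₗ LinearMap.mulRight A i.1.2
  let v : (S → A) →ₗ[A] B := ∑ i : S, (LinearMap.proj i).smulRight i.1.1
  have hvu : v ∘ₗ u = LinearMap.id := by
    ext b
    simp only [u, v, trL, LinearMap.comp_apply, LinearMap.sum_apply, LinearMap.smulRight_apply,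
      LinearMap.proj_apply, LinearMap.pi_apply, LinearMap.coe_mk, AddHom.coe_mk,
      LinearMap.mulRight_apply, LinearMap.id_apply, Algebra.smul_def]
    rw [Finset.univ_eq_attach, Finset.sum_attach S fun i => algebraMap A B (tr (b * i.2)) * i.1]
    exact hrecon b
  haveI hfin : Module.Finite A B := Module.Finite.of_surjective v fun b => ⟨u b, congr($hvu b)⟩
  refine ⟨hbij, Module.Projective.of_split u v hvu, hfin, ?_⟩
  rw [Algebra.FormallyUnramified.iff_exists_tensorProduct]
  refine ⟨z, fun s => hbij.1 ?_, ?_⟩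
  · rw [map_mul, map_sub, map_zero]
    ext g
    simp only [Pi.mul_apply, Pi.sub_apply, Pi.zero_apply, Φ_tmul, one_mul, smul_one, mul_one]
    by_cases hg : g = 1
    · rw [hg, one_smul, sub_self, zero_mul]
    · rw [hz0 g hg, mul_zero]
  · have : ∀ x : B ⊗[A] B, Algebra.TensorProduct.lmul' A x = Φ A B G x 1 := fun x => by
      induction x with
      | zero => simp
      | tmul a b => simp [Φ_tmul]
      | add x y hx hy => simp [hx, hy]
    rw [this, hz1]

include hfree hinj in
theorem etale : Algebra.Etale A B := by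
  obtain ⟨-, h1, h2, h3⟩ := main (A := A) hfree hinj
  haveI : Module.FinitePresentation A B := Module.finitePresentation_of_projective A B
  haveI : Algebra.FinitePresentation A B := inferInstance
  exact Algebra.Etale.of_formallyUnramified_of_flat

end

end Groth.Agent.IsQuot25.GalExt
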