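import Groth.Agent.Lib.IsQuot25.Points
import Mathlib.FieldTheory.Normal.Basic

/-!
# Residue fields of a quotient by a finite group
-/

set_option autoImplicit false
set_option backward.isDefEq.respectTransparency.types false
universe u

open CategoryTheory AlgebraicGeometry Polynomial

namespace Groth.Agent.IsQuot25

variable {X Y : Scheme.{u}} {G : Type u} [Group G] [Finite G] {ρ : G →* Aut X} {p : X ⟶ Y}

theorem exists_act_eq_residueField (hp : SGA1.IsQuot ρ p) (x : X)
    (τ : X.residueField x ≅ X.residueField x)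
    (hτ : p.residueFieldMap x ≫ τ.hom = p.residueFieldMap x) :
    ∃ (g : G) (e : (ρ g).hom.base x = x),
      τ.hom = (X.residueFieldCongr e).inv ≫ (ρ g).hom.residueFieldMap x := by
  let a : Spec (CommRingCat.of (X.residueField x)) ⟶ X := X.fromSpecResidueField x
  have h : a ≫ p = (Spec.map τ.hom ≫ a) ≫ p := by
    simp only [a, Category.assoc]
    rw [← Scheme.Hom.SpecMap_residueFieldMap_fromSpecResidueField, ← Spec.map_comp_assoc, hτ]
  obtain ⟨g, hg⟩ := exists_act_of_comp_eq hp a (Spec.map τ.hom ≫ a) h
  have e : (ρ g).hom x = x := by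
    have := congr($hg (IsLocalRing.closedPoint (X.residueField x)))
    simp only [a, Scheme.Hom.comp_apply, Scheme.fromSpecResidueField_apply] at this
    exact (congrArg (ρ g).hom (Scheme.fromSpecResidueField_apply x _)).symm.trans this
  refine ⟨g, e, Spec.map_injective ?_⟩
  rw [← cancel_mono (X.fromSpecResidueField x), Spec.map_comp, Category.assoc]
  refine hg.symm.trans ?_
  simp only [a]
  rw [← Scheme.Hom.SpecMap_residueFieldMap_fromSpecResidueField, Scheme.residueFieldCongr_inv,
    Scheme.residueFieldCongr_fromSpecResidueField]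

/-- Residue field extensions are normal. -/
theorem normal_residueField (hp : SGA1.IsQuot ρ p) (x : X) :
    letI := (p.residueFieldMap x).hom.toAlgebra
    Normal (Y.residueField (p x)) (X.residueField x) := by
  letI := (p.residueFieldMap x).hom.toAlgebra
  obtain ⟨U, hU, hxU, -⟩ :=
    exists_isAffineOpen_mem_and_subset (show p x ∈ (⊤ : Y.Opens) from trivial)
  have hV := isAffineOpen_preimage hp hU
  have hx : x ∈ p ⁻¹ᵁ U := hxU
  letI := action hp.inv U
  letI := (p.app U).hom.toAlgebra
  haveI := isInvariant hp U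
  cases nonempty_fintype G
  let α : Γ(X, p ⁻¹ᵁ U) →+* X.residueField x := (X.evaluation (p ⁻¹ᵁ U) x hx).hom
  let γ : Γ(Y, U) →+* Y.residueField (p x) := (Y.evaluation U (p x) hxU).hom
  have hnat : ∀ t, algebraMap (Y.residueField (p x)) (X.residueField x) (γ t) = α (p.app U t) :=
    fun t => Scheme.evaluation_naturality_apply p x hxU t
  have key : ∀ s, IsIntegral (Y.residueField (p x)) (α s) ∧
      ((minpoly (Y.residueField (p x)) (α s)).map
        (algebraMap (Y.residueField (p x)) (X.residueField x))).Splits := by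
    intro s
    obtain ⟨P, hP1, -, hP2⟩ := Polynomial.lifts_and_natDegree_eq_and_monic
      (Algebra.IsInvariant.charpoly_mem_lifts Γ(Y, U) Γ(X, p ⁻¹ᵁ U) G s)
      (MulSemiringAction.monic_charpoly G s)
    have hmap : (P.map γ).map (algebraMap (Y.residueField (p x)) (X.residueField x)) =
        (MulSemiringAction.charpoly G s).map α := by
      rw [← hP1, Polynomial.map_map, Polynomial.map_map]
      congr 1
      ext t
      exact hnat t
    have hroot : (aeval (α s)) (P.map γ) = 0 := by
      rw [aeval_def, ← eval_map, hmap, eval_map_apply, MulSemiringAction.eval_charpoly, map_zero]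
    refine ⟨⟨P.map γ, hP2.map γ, hroot⟩, ?_⟩
    have hsplit : ((P.map γ).map (algebraMap (Y.residueField (p x)) (X.residueField x))).Splits := by
      rw [hmap]
      exact (MulSemiringAction.splits_charpoly G s).map α
    exact hsplit.of_dvd ((hP2.map γ).map _).ne_zero
      (Polynomial.map_dvd _ (minpoly.dvd _ _ hroot))
  let S : Set (X.residueField x) := Set.range α
  have hfrac : ∀ l : X.residueField x, ∃ s t, α t ≠ 0 ∧ l = α s / α t := by
    intro l
    obtain ⟨z, rfl⟩ := X.residue_surjective x l
    letI := X.presheaf.algebra_section_stalk ⟨x, hx⟩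
    haveI := hV.isLocalization_stalk ⟨x, hx⟩
    obtain ⟨⟨s, t⟩, hst⟩ := IsLocalization.surj (hV.primeIdealOf ⟨x, hx⟩).asIdeal.primeCompl z
    simp only at hst
    have ht : IsUnit (algebraMap _ (X.presheaf.stalk x) (t : Γ(X, p ⁻¹ᵁ U))) :=
      IsLocalization.map_units (X.presheaf.stalk x) t
    have h0 : α (t : Γ(X, p ⁻¹ᵁ U)) ≠ 0 := (ht.map (X.residue x).hom).ne_zero
    refine ⟨s, t, h0, ?_⟩
    rw [eq_div_iff h0]
    show X.residue x z * X.residue x (algebraMap _ (X.presheaf.stalk x) _) = X.residue x _
    rw [← map_mul, hst]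
    rfl
  have hmem : ∀ l : X.residueField x, l ∈ IntermediateField.adjoin (Y.residueField (p x)) S := by
    intro l
    obtain ⟨s, t, -, rfl⟩ := hfrac l
    exact div_mem (IntermediateField.subset_adjoin _ _ ⟨s, rfl⟩)
      (IntermediateField.subset_adjoin _ _ ⟨t, rfl⟩)
  refine normal_iff.2 fun l => ⟨?_, IntermediateField.splits_of_mem_adjoin _ _ ?_ (hmem l)⟩
  · obtain ⟨s, t, -, rfl⟩ := hfrac l
    rw [div_eq_mul_inv]
    exact (key s).1.mul (key t).1.inv
  · rintro _ ⟨s, rfl⟩
    exact key s

end Groth.Agent.IsQuot25
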